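import Mathlib

/-!
# Smooth algebras over reduced rings are reduced

Ring-level results:
* an etale algebra over a ring all of whose residue fields at primes are localizations (an absolutely flat
  ring) is reduced;
* an etale algebra over a reduced ring is reduced (embed the base in the product of its residue fields);
* a smooth algebra over a reduced ring is reduced (local structure of smooth algebras).
-/

universe u

namespace Groth.Agent.Helper2.RingLib

open TensorProduct

/-- Absolutely flat (von Neumann regular) commutative rings. -/
def IsVNR (R : Type*) [CommRing R] : Prop := ∀ x : R, ∃ y : R, x = x * x * y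

theorem isVNR_pi {ι : Type*} (K : ι → Type*) [∀ i, Field (K i)] : IsVNR (∀ i, K i) := by
  intro x
  refine ⟨fun i => (x i)⁻¹, ?_⟩
  funext i
  by_cases h : x i = 0
  · simp [h]
  · simp [h]

/-- In an absolutely flat ring the maximal ideal of every localization at a prime is zero. -/
theorem maximalIdeal_localization_eq_bot {R : Type*} [CommRing R] (h : IsVNR R) (p : Ideal R)
    [p.IsPrime] : IsLocalRing.maximalIdeal (Localization.AtPrime p) = ⊥ := by
  rw [eq_bot_iff]
  intro x hx
  obtain ⟨a, s, rfl⟩ := IsLocalization.exists_mk'_eq p.primeCompl x
  have ha : a ∈ p := by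
    rwa [IsLocalization.AtPrime.mk'_mem_maximal_iff (Localization.AtPrime p) p] at hx
  obtain ⟨y, hy⟩ := h a
  have h1 : (1 - a * y) ∈ p.primeCompl := fun h' => by
    apply (Ideal.ne_top_iff_one p).1 (Ideal.IsPrime.ne_top ‹_›)
    have := p.add_mem h' (p.mul_mem_right y ha)
    simpa using this
  rw [Ideal.mem_bot, IsLocalization.mk'_eq_zero_iff]
  refine ⟨⟨1 - a * y, h1⟩, ?_⟩
  change (1 - a * y) * a = 0
  linear_combination hy

/-- In an absolutely flat ring the residue field at a prime is the localization at this prime. -/
theorem isLocalization_residueField {R : Type*} [CommRing R] (h : IsVNR R) (p : Ideal R)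
    [p.IsPrime] : IsLocalization p.primeCompl p.ResidueField := by
  have hbot := maximalIdeal_localization_eq_bot h p
  have hbij : Function.Bijective
      (IsScalarTower.toAlgHom R (Localization.AtPrime p) p.ResidueField) := by
    constructor
    · rw [injective_iff_map_eq_zero]
      intro x hx
      have : x ∈ IsLocalRing.maximalIdeal (Localization.AtPrime p) := by
        rw [← IsLocalRing.residue_eq_zero_iff]
        exact hx
      rw [hbot] at this
      exact this
    · exact IsLocalRing.residue_surjective
  exact IsLocalization.isLocalization_of_algEquiv p.primeCompl (AlgEquiv.ofBijective _ hbij)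

/-- An etale algebra over an absolutely flat ring is reduced. -/
theorem isReduced_of_etale_of_isVNR {R S : Type u} [CommRing R] [CommRing S] [Algebra R S]
    [Algebra.Etale R S] (h : IsVNR R) : IsReduced S := by
  constructor
  intro s hs
  by_contra hne
  let I : Ideal R := LinearMap.ker (LinearMap.toSpanSingleton R S s)
  have hI : I ≠ ⊤ := by
    intro htop
    apply hne
    have : (1 : R) ∈ I := htop ▸ Submodule.mem_top
    simpa [I] using this
  obtain ⟨m, hm, hIm⟩ := Ideal.exists_le_maximal I hI
  have : m.IsPrime := hm.isPrime
  have := isLocalization_residueField h m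
  have hred : IsReduced (m.ResidueField ⊗[R] S) :=
    Algebra.FormallyUnramified.isReduced_of_field m.ResidueField (m.ResidueField ⊗[R] S)
  have h0 : (TensorProduct.mk R m.ResidueField S 1) s = 0 := by
    have : IsNilpotent ((1 : m.ResidueField) ⊗ₜ[R] s) :=
      hs.map (Algebra.TensorProduct.includeRight : S →ₐ[R] m.ResidueField ⊗[R] S)
    exact IsReduced.eq_zero _ this
  obtain ⟨t, ht⟩ :=
    (IsLocalizedModule.eq_zero_iff m.primeCompl (TensorProduct.mk R m.ResidueField S 1)).1 h0
  exact t.2 (hIm (by simpa [I, Submonoid.smul_def] using ht))

/-- An etale algebra over a reduced ring is reduced. -/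
theorem isReduced_of_etale {R S : Type u} [CommRing R] [CommRing S] [Algebra R S]
    [Algebra.Etale R S] [IsReduced R] : IsReduced S := by
  let Pi : Type u := ∀ p : PrimeSpectrum R, p.asIdeal.ResidueField
  have hinj : Function.Injective (algebraMap R Pi) := by
    rw [injective_iff_map_eq_zero]
    intro r hr
    have hmem : r ∈ nilradical R := by
      rw [nilradical_eq_sInf, Ideal.mem_sInf]
      intro p hp
      have hp' : p.IsPrime := hp
      have := congrFun hr ⟨p, hp⟩
      simpa [Pi, Ideal.algebraMap_residueField_eq_zero] using this
    simpa [nilradical_eq_zero] using hmem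
  have hvnr : IsVNR Pi := isVNR_pi _
  have : IsReduced (Pi ⊗[R] S) := isReduced_of_etale_of_isVNR hvnr
  exact isReduced_of_injective (Algebra.TensorProduct.includeRight : S →ₐ[R] Pi ⊗[R] S)
    (Algebra.TensorProduct.includeRight_injective hinj)

theorem _root_.RingHom.Etale.isReduced {R S : Type u} [CommRing R] [CommRing S] {f : R →+* S}
    (hf : f.Etale) [IsReduced R] : IsReduced S := by
  algebraize [f]
  exact isReduced_of_etale (R := R)

/-- A ring that is covered by reduced localizations away from elements is reduced. -/
theorem isReduced_of_span_eq_top {S : Type*} [CommRing S] (s : Set S) (hs : Ideal.span s = ⊤)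
    (h : ∀ x ∈ s, IsReduced (Localization.Away x)) : IsReduced S := by
  constructor
  intro t ht
  by_contra hne
  let I : Ideal S := LinearMap.ker (LinearMap.toSpanSingleton S S t)
  have hI : I ≠ ⊤ := by
    intro htop
    apply hne
    have : (1 : S) ∈ I := htop ▸ Submodule.mem_top
    simpa [I] using this
  obtain ⟨m, hm, hIm⟩ := Ideal.exists_le_maximal I hI
  have : ∃ x ∈ s, x ∉ m := by
    by_contra hcon
    push Not at hcon
    have : Ideal.span s ≤ m := Ideal.span_le.2 hcon
    rw [hs] at this
    exact hm.ne_top (top_le_iff.1 this)
  obtain ⟨x, hxs, hxm⟩ := this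
  have := h x hxs
  have h0 : algebraMap S (Localization.Away x) t = 0 :=
    IsReduced.eq_zero _ (ht.map (algebraMap S (Localization.Away x)))
  obtain ⟨⟨_, k, rfl⟩, hk⟩ := (IsLocalization.map_eq_zero_iff (Submonoid.powers x) _ t).1 h0
  have hmem : x ^ k ∈ I := by
    simpa [I] using hk
  exact hxm (hm.isPrime.mem_of_pow_mem k (hIm hmem))

/-- A standard smooth ring map out of a reduced ring has reduced target. -/
theorem _root_.RingHom.IsStandardSmooth.isReduced {R S : Type u} [CommRing R] [CommRing S]
    {f : R →+* S} (hf : f.IsStandardSmooth) [IsReduced R] : IsReduced S := by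
  obtain ⟨n, g, -, hg⟩ := hf.exists_etale_mvPolynomial
  exact hg.isReduced

/-- A smooth algebra over a reduced ring is reduced. -/
theorem isReduced_of_smooth {R S : Type u} [CommRing R] [CommRing S] [Algebra R S]
    [Algebra.Smooth R S] [IsReduced R] : IsReduced S := by
  obtain ⟨s, hs, h⟩ := Algebra.Smooth.exists_span_eq_top_isStandardSmooth R S
  refine isReduced_of_span_eq_top s hs fun x hx => ?_
  have := h x hx
  have hstd : (algebraMap R (Localization.Away x)).IsStandardSmooth :=
    RingHom.isStandardSmooth_algebraMap.2 this
  exact hstd.isReduced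

theorem _root_.RingHom.Smooth.isReduced {R S : Type u} [CommRing R] [CommRing S] {f : R →+* S}
    (hf : f.Smooth) [IsReduced R] : IsReduced S := by
  algebraize [f]
  exact isReduced_of_smooth (R := R)

end Groth.Agent.Helper2.RingLib
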