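import Mathlib

/-!
# Krull dimension along flat quasi-finite local homomorphisms
-/

namespace Groth.Agent.Helper2.DimEtaleLocal

open IsLocalRing

theorem ringKrullDim_le_of_flat_local {A B : Type*} [CommRing A] [CommRing B] [IsLocalRing A]
    [IsLocalRing B] [Algebra A B] [IsLocalHom (algebraMap A B)] [Module.Flat A B] :
    ringKrullDim A ≤ ringKrullDim B := by
  haveI : Module.FaithfullyFlat A B := Module.FaithfullyFlat.of_flat_of_isLocalHom
  unfold ringKrullDim Order.krullDim
  refine iSup_le fun l => ?_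
  obtain ⟨P, hP⟩ := PrimeSpectrum.comap_surjective_of_faithfullyFlat (A := A) (B := B) l.last
  haveI : P.asIdeal.LiesOver l.last.asIdeal := ⟨(congrArg PrimeSpectrum.asIdeal hP).symm⟩
  obtain ⟨L, hL, -, -⟩ := Ideal.exists_ltSeries_of_hasGoingDown l P.asIdeal
  rw [← hL]
  exact le_iSup (fun p : LTSeries (PrimeSpectrum B) => (p.length : WithBot ℕ∞)) L

theorem ringKrullDim_le_of_quasiFinite {A B : Type*} [CommRing A] [CommRing B] [Algebra A B]
    [Algebra.QuasiFinite A B] : ringKrullDim B ≤ ringKrullDim A := by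
  refine Order.krullDim_le_of_strictMono (PrimeSpectrum.comap (algebraMap A B)) ?_
  intro q q' hlt
  have hle : q.asIdeal ≤ q'.asIdeal := (PrimeSpectrum.asIdeal_le_asIdeal q q').mpr hlt.le
  refine lt_of_le_of_ne ?_ ?_
  · exact (PrimeSpectrum.asIdeal_le_asIdeal _ _).mp (Ideal.comap_mono hle)
  · intro heq
    have h2 : q.asIdeal.under A = q'.asIdeal.under A := congrArg PrimeSpectrum.asIdeal heq
    have := Algebra.QuasiFinite.eq_of_le_of_under_eq (R := A) q.asIdeal q'.asIdeal hle h2
    exact hlt.ne (PrimeSpectrum.ext this)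

theorem ringKrullDim_eq {A B : Type*} [CommRing A] [CommRing B] [IsLocalRing A]
    [IsLocalRing B] [Algebra A B] [IsLocalHom (algebraMap A B)] [Module.Flat A B]
    [Algebra.QuasiFinite A B] : ringKrullDim A = ringKrullDim B :=
  le_antisymm ringKrullDim_le_of_flat_local ringKrullDim_le_of_quasiFinite

end Groth.Agent.Helper2.DimEtaleLocal
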