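import Mathlib
import Groth.Prelude.Def_Hensel
import Groth.Agent.Lib.Helper7.SHensGen
import Groth.Agent.Lib.Helper7.SHensTensorBij2
import Groth.Agent.Lib.Helper7.SHens.Abstract
import Groth.Agent.Lib.Helper3.FlatDescent

/-!
# Flatness and strict henselizations (helper2)
-/

set_option autoImplicit false
set_option linter.style.haveILetI false
set_option linter.unusedSectionVars false

universe u

open IsLocalRing TensorProduct

namespace Groth.Agent.Helper2.SHensFlat

open Groth.Agent.Helper7.HensTensor Groth.Agent.Helper7.SHensTensor Groth.Agent.Helper7.SHensGen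

section main

variable (R : Type u) [CommRing R] (S : Type u)
    [CommRing S] [Algebra R S] (p : Ideal R) [p.IsPrime] (q : Ideal S) [q.IsPrime]
    [hqp : q.LiesOver p]
    (Rp : Type u) [CommRing Rp] [Algebra R Rp] [hRp : IsLocalization.AtPrime Rp p]
    [IsLocalRing Rp]
    (Sq : Type u) [CommRing Sq] [Algebra S Sq] [hSq : IsLocalization.AtPrime Sq q]
    [IsLocalRing Sq]
    (Rh : Type u) [CommRing Rh] [IsLocalRing Rh] [Algebra Rp Rh]
    [IsLocalHom (algebraMap Rp Rh)]
    [hRh : Hensel.IsStrictHenselization Rp Rh] [Algebra R Rh]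
    [tR : IsScalarTower R Rp Rh]
    (Sh : Type u) [CommRing Sh] [IsLocalRing Sh] [Algebra Sq Sh]
    [IsLocalHom (algebraMap Sq Sh)]
    [hSh : Hensel.IsStrictHenselization Sq Sh] [Algebra S Sh]
    [tS : IsScalarTower S Sq Sh] [Algebra R Sh] [tRS : IsScalarTower R S Sh]
    [Algebra Rh Sh] [tRRh : IsScalarTower R Rh Sh]

include hqp hRp hSq hRh hSh tR tS tRS tRRh

set_option maxHeartbeats 1600000 in
set_option synthInstance.maxHeartbeats 400000 in
/-- If `S` is flat over `R` then the strict henselization of `S_q` is flat over that of `R_p`. -/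
theorem flat_strictHenselization [Module.Flat R S] : Module.Flat Rh Sh := by
  set Q := Ideal.comap (phi R S Rh Sh) (maximalIdeal Sh) with hQ
  set j := jmap R S Rh Sh with hjdef
  have hj : ∀ d, j (algebraMap (Rh ⊗[R] S) _ d) = phi R S Rh Sh d :=
    jmap_apply R S p q Rp Sq Rh Sh
  haveI hjloc : IsLocalHom j := isLocalHom_jmap R S p q Rp Sq Rh Sh
  letI algQ : Algebra (Localization.AtPrime Q) Sh := j.toAlgebra
  haveI : IsLocalHom (algebraMap (Localization.AtPrime Q) Sh) := hjloc
  letI : Algebra Sq (Localization.AtPrime Q) := (iotaS R S p q Rp Sq Rh Sh).toAlgebra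
  haveI : IsLocalHom (algebraMap Sq (Localization.AtPrime Q)) :=
    isLocalHom_iotaS R S p q Rp Sq Rh Sh
  haveI : IsScalarTower Sq (Localization.AtPrime Q) Sh :=
    IsScalarTower.of_algebraMap_eq (fun x =>
      (RingHom.congr_fun (comp_iotaS R S p q Rp Sq Rh Sh j hj) x).symm)
  haveI := hSh.isSepClosure.separable
  haveI hsep : Algebra.IsSeparable (ResidueField (Localization.AtPrime Q)) (ResidueField Sh) :=
    Algebra.isSeparable_tower_top_of_isSeparable (ResidueField Sq) _ (ResidueField Sh)
  haveI hSH : Hensel.IsStrictHenselization (Localization.AtPrime Q) Sh :=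
    ⟨hSh.henselian, ⟨hSh.isSepClosure.sep_closed, hsep⟩, fun T _ _ f _ τ hτ =>
      universal_tensor_strict R S p q Rp Sq Rh Sh T j hj f τ hτ⟩
  haveI h1 : Module.Flat (Localization.AtPrime Q) Sh :=
    Groth.Agent.Helper7.SHens.flat_of_isStrictHenselization (Localization.AtPrime Q) Sh
  haveI h2 : Module.Flat Rh (Rh ⊗[R] S) := inferInstance
  haveI h3 : Module.Flat (Rh ⊗[R] S) (Localization.AtPrime Q) :=
    IsLocalization.flat (Localization.AtPrime Q) Q.primeCompl
  haveI h4 : Module.Flat Rh (Localization.AtPrime Q) :=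
    Module.Flat.trans Rh (Rh ⊗[R] S) (Localization.AtPrime Q)
  haveI : IsScalarTower Rh (Localization.AtPrime Q) Sh :=
    IsScalarTower.of_algebraMap_eq (fun a => (jmap_algebraMap R S p q Rp Sq Rh Sh a).symm)
  exact Module.Flat.trans Rh (Localization.AtPrime Q) Sh

end main

/-- Flatness of a local homomorphism is equivalent to flatness of the induced map of strict
henselizations. -/
theorem flat_iff_strictHenselization {A B : Type u} [CommRing A] [CommRing B] [IsLocalRing A]
    [IsLocalRing B] (ψ : A →+* B) [hψ : IsLocalHom ψ]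
    (R' : Type u) [CommRing R'] [IsLocalRing R'] [Algebra A R'] [IsLocalHom (algebraMap A R')]
    [Hensel.IsStrictHenselization A R']
    (R : Type u) [CommRing R] [IsLocalRing R] [Algebra B R] [IsLocalHom (algebraMap B R)]
    [Hensel.IsStrictHenselization B R]
    (φ : R' →+* R) [IsLocalHom φ]
    (hφ : φ.comp (algebraMap A R') = (algebraMap B R).comp ψ) : ψ.Flat ↔ φ.Flat := by
  constructor
  · intro hfl
    letI : Algebra A B := ψ.toAlgebra
    haveI : IsLocalHom (algebraMap A B) := hψ
    haveI : Module.Flat A B := hfl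
    haveI : IsLocalization.AtPrime A (maximalIdeal A) :=
      Groth.Agent.Helper7.SHensTensorBij.isLocalization_self_of_isLocalRing A
    haveI : IsLocalization.AtPrime B (maximalIdeal B) :=
      Groth.Agent.Helper7.SHensTensorBij.isLocalization_self_of_isLocalRing B
    letI : Algebra A R := ((algebraMap B R).comp ψ).toAlgebra
    haveI : IsScalarTower A B R := IsScalarTower.of_algebraMap_eq (fun _ => rfl)
    letI : Algebra R' R := φ.toAlgebra
    haveI : IsScalarTower A R' R :=
      IsScalarTower.of_algebraMap_eq (fun a => (RingHom.congr_fun hφ a).symm)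
    exact flat_strictHenselization A B (maximalIdeal A) (maximalIdeal B) A B R' R
  · intro hfl
    have h1 : (algebraMap A R').Flat :=
      RingHom.flat_algebraMap_iff.mpr
        (Groth.Agent.Helper7.SHens.flat_of_isStrictHenselization A R')
    have h2 : ((algebraMap B R).comp ψ).Flat := by
      rw [← hφ]
      exact RingHom.Flat.comp h1 hfl
    refine Groth.Agent.Helper3.ringHom_flat_of_comp_of_faithfullyFlat ψ (algebraMap B R) ?_ h2
    rw [RingHom.faithfullyFlat_algebraMap_iff]
    exact Groth.Agent.Helper7.SHens.faithfullyFlat_of_isStrictHenselization B R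

end Groth.Agent.Helper2.SHensFlat
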