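import Mathlib
import Groth.Agent.Lib.Helper2.Ring.SHensFlat
import Groth.Agent.Lib.Helper7.SHens.Main
import Groth.Agent.S2135

/-!
# Functoriality of strict henselizations; geometric unibranchness descends along flat local maps
(helper2)
-/

set_option autoImplicit false
set_option linter.style.haveILetI false

universe u

open IsLocalRing

namespace Groth.Agent.Helper2.SHensMap

/-- A local homomorphism induces a local homomorphism of strict henselizations. -/
theorem exists_map_strictHenselization {A B : Type u} [CommRing A] [CommRing B] [IsLocalRing A]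
    [IsLocalRing B] (ψ : A →+* B) [hψ : IsLocalHom ψ]
    (R' : Type u) [CommRing R'] [IsLocalRing R'] [Algebra A R'] [IsLocalHom (algebraMap A R')]
    [hS' : Hensel.IsStrictHenselization A R']
    (R : Type u) [CommRing R] [IsLocalRing R] [Algebra B R] [IsLocalHom (algebraMap B R)]
    [hS : Hensel.IsStrictHenselization B R] :
    ∃ φ : R' →+* R, IsLocalHom φ ∧ φ.comp (algebraMap A R') = (algebraMap B R).comp ψ := by
  haveI hhR : HenselianLocalRing R := hS.henselian
  letI : Algebra A R := ((algebraMap B R).comp ψ).toAlgebra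
  haveI : IsLocalHom (algebraMap A R) := RingHom.isLocalHom_comp (algebraMap B R) ψ
  haveI : IsSepClosed (ResidueField R) := hS.isSepClosure.sep_closed
  haveI : Algebra.IsSeparable (ResidueField A) (ResidueField R') := hS'.isSepClosure.separable
  let τ : ResidueField R' →ₐ[ResidueField A] ResidueField R := IsSepClosed.lift
  have hτ : (τ : ResidueField R' →+* ResidueField R).comp
      (ResidueField.map (algebraMap A R')) = ResidueField.map (algebraMap A R) := by
    rw [Groth.Agent.Helper7.SHens.residueField_map_algebraMap,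
      Groth.Agent.Helper7.SHens.residueField_map_algebraMap]
    ext x
    exact τ.commutes x
  obtain ⟨g, ⟨hg1, hg2⟩, -⟩ := hS'.universal R (algebraMap A R) _ hτ
  refine ⟨g, ⟨fun x hx => ?_⟩, hg1⟩
  by_contra hnu
  have h1 : residue R' x = 0 := (residue_eq_zero_iff x).mpr hnu
  have h2 : residue R (g x) = 0 := by rw [hg2, h1, map_zero]
  exact ((residue_eq_zero_iff (g x)).mp h2) hx

/-- A faithfully flat ring map reflects uniqueness of the minimal prime. -/
theorem hasUniqueMinimalPrime_of_flat_local {R' R : Type u} [CommRing R'] [CommRing R]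
    [IsLocalRing R'] [IsLocalRing R] (φ : R' →+* R) [IsLocalHom φ] (hfl : φ.Flat)
    (hR : CAlgX.HasUniqueMinimalPrime R) : CAlgX.HasUniqueMinimalPrime R' := by
  letI : Algebra R' R := φ.toAlgebra
  haveI : Module.Flat R' R := hfl
  haveI : IsLocalHom (algebraMap R' R) := ‹IsLocalHom φ›
  haveI : Module.FaithfullyFlat R' R := Module.FaithfullyFlat.of_flat_of_isLocalHom
  obtain ⟨q₀, hq₀, hq₀u⟩ := hR
  have key : ∀ p : Ideal R', p ∈ minimalPrimes R' → p = q₀.comap (algebraMap R' R) := by
    intro p hp
    haveI : p.IsPrime := hp.1.1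
    obtain ⟨q, hq⟩ := PrimeSpectrum.comap_surjective_of_faithfullyFlat (A := R') (B := R) ⟨p, inferInstance⟩
    have hqp : q.asIdeal.comap (algebraMap R' R) = p := congrArg PrimeSpectrum.asIdeal hq
    haveI := q.isPrime
    obtain ⟨q₁, hq₁, hq₁le⟩ := Ideal.exists_minimalPrimes_le (I := (⊥ : Ideal R)) (J := q.asIdeal)
      bot_le
    have hq₁' : q₁ = q₀ := hq₀u q₁ hq₁
    subst hq₁'
    haveI : q₁.IsPrime := hq₁.1.1
    have hle : q₁.comap (algebraMap R' R) ≤ p := by
      rw [← hqp]; exact Ideal.comap_mono hq₁le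
    exact le_antisymm (hp.2 ⟨inferInstance, bot_le⟩ hle) hle
  obtain ⟨p₀, hp₀⟩ : ∃ p₀ : Ideal R', p₀ ∈ minimalPrimes R' := by
    obtain ⟨p, hp, -⟩ := Ideal.exists_minimalPrimes_le (I := (⊥ : Ideal R'))
      (J := maximalIdeal R') bot_le
    exact ⟨p, hp⟩
  exact ⟨p₀, hp₀, fun p hp => (key p hp).trans (key p₀ hp₀).symm⟩

/-- Geometric unibranchness descends along flat local homomorphisms. -/
theorem isGeomUnibranch_of_flat_local {A B : Type u} [CommRing A] [CommRing B] [IsLocalRing A]
    [IsLocalRing B] (ψ : A →+* B) [IsLocalHom ψ] (hfl : ψ.Flat)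
    (hB : CAlg2.IsGeomUnibranch B) : CAlg2.IsGeomUnibranch A := by
  obtain ⟨R', _, _, _, _, hR'⟩ := Groth.Agent.Helper7.SHens.exists_isStrictHenselization A
  obtain ⟨R, _, _, _, _, hR⟩ := Groth.Agent.Helper7.SHens.exists_isStrictHenselization B
  obtain ⟨φ, hφl, hφ⟩ := exists_map_strictHenselization ψ R' R
  have hφfl : φ.Flat :=
    (Groth.Agent.Helper2.SHensFlat.flat_iff_strictHenselization ψ R' R φ hφ).mp hfl
  have h1 : CAlgX.HasUniqueMinimalPrime R := (Groth.Agent.S2135.result (A := B) (Ash := R)).mp hB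
  exact (Groth.Agent.S2135.result (A := A) (Ash := R')).mpr
    (hasUniqueMinimalPrime_of_flat_local φ hφfl h1)

end Groth.Agent.Helper2.SHensMap
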