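import Mathlib

/-!
# Local rings of dimension zero along flat and unramified local homomorphisms
-/

namespace Groth.Agent.Helper2.DimZeroLocal

open IsLocalRing

theorem krullDimLE_zero_of_flat_local {A B : Type*} [CommRing A] [CommRing B] [IsLocalRing A]
    [IsLocalRing B] [Algebra A B] [IsLocalHom (algebraMap A B)] [Module.Flat A B]
    [Ring.KrullDimLE 0 B] : Ring.KrullDimLE 0 A := by
  haveI : Module.FaithfullyFlat A B := Module.FaithfullyFlat.of_flat_of_isLocalHom
  refine Ring.KrullDimLE.mk₀ fun p hp => ?_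
  obtain ⟨q, hq⟩ := PrimeSpectrum.comap_surjective_of_faithfullyFlat (A := A) (B := B) ⟨p, hp⟩
  have h1 : q.asIdeal = maximalIdeal B := Ring.KrullDimLE.eq_maximalIdeal_of_isPrime q.asIdeal
  have h2 : (maximalIdeal B).comap (algebraMap A B) = maximalIdeal A :=
    ((local_hom_TFAE (algebraMap A B)).out 0 4 rfl rfl).mp inferInstance
  have h3 : p = q.asIdeal.comap (algebraMap A B) := (congrArg PrimeSpectrum.asIdeal hq).symm
  rw [h3, h1, h2]
  infer_instance

theorem krullDimLE_zero_of_unramified_local {A B : Type*} [CommRing A] [CommRing B]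
    [IsLocalRing A] [IsLocalRing B] [Algebra A B] [IsLocalHom (algebraMap A B)]
    [Algebra.EssFiniteType A B] [Algebra.FormallyUnramified A B]
    [Ring.KrullDimLE 0 A] : Ring.KrullDimLE 0 B := by
  refine Ring.KrullDimLE.mk₀ fun q hq => ?_
  have h1 : q.comap (algebraMap A B) = maximalIdeal A :=
    Ring.KrullDimLE.eq_maximalIdeal_of_isPrime _
  have h2 : (maximalIdeal A).map (algebraMap A B) ≤ q := by
    rw [Ideal.map_le_iff_le_comap, h1]
  rw [Algebra.FormallyUnramified.map_maximalIdeal] at h2
  have h3 : maximalIdeal B = q :=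
    (IsLocalRing.maximalIdeal.isMaximal B).eq_of_le hq.ne_top h2
  rw [← h3]
  infer_instance

end Groth.Agent.Helper2.DimZeroLocal
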