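import Mathlib
import Groth.Prelude.Def_Hensel
import Groth.Agent.Lib.Helper7.Hensel.EtaleLift
import Groth.Agent.Lib.Helper7.Hensel.Local

/-!
# Henselization along a local-etale map with trivial residue field extension (helper2)

If `A → B` is a local homomorphism of local rings which is a localization of an etale ring map,
is unramified (`m_A B = m_B`) and induces a surjection on residue fields, then a henselization of
`B` is a henselization of `A`.
-/

set_option autoImplicit false

open TensorProduct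

namespace Groth.Agent.Helper2.HensLocalEtale
open Groth.Agent.Helper7

universe u

variable {A₀ E₀ A B : Type u} [CommRing A₀] [CommRing E₀] [Algebra A₀ E₀] [Algebra.Etale A₀ E₀]
  [CommRing A] [IsLocalRing A] [Algebra A₀ A] [CommRing B] [IsLocalRing B] [Algebra E₀ B]
  (q₀ : Ideal E₀) [q₀.IsPrime] [IsLocalization.AtPrime B q₀]
  (p₀ : Ideal A₀) [p₀.IsPrime] [IsLocalization.AtPrime A p₀]
  (φ : A →+* B) [IsLocalHom φ]
  (hφ : φ.comp (algebraMap A₀ A) = (algebraMap E₀ B).comp (algebraMap A₀ E₀))
  (hres : Function.Surjective (IsLocalRing.ResidueField.map φ))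
  (hmax : (IsLocalRing.maximalIdeal A).map φ = IsLocalRing.maximalIdeal B)

include q₀ p₀ hφ hres in
/-- Extension of local homomorphisms to henselian local rings. -/
theorem exists_extension (T : Type u) [CommRing T] [HenselianLocalRing T] (f : A →+* T)
    [IsLocalHom f] : ∃ f' : B →+* T, IsLocalHom f' ∧ f'.comp φ = f := by
  letI : Algebra A₀ T := (f.comp (algebraMap A₀ A)).toAlgebra
  have hbij : Function.Bijective (IsLocalRing.ResidueField.map φ) :=
    ⟨(IsLocalRing.ResidueField.map φ).injective, hres⟩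
  obtain ⟨eκ, heκ⟩ : ∃ eκ : IsLocalRing.ResidueField A ≃+* IsLocalRing.ResidueField B,
      ∀ x, eκ x = IsLocalRing.ResidueField.map φ x := ⟨RingEquiv.ofBijective _ hbij, fun _ => rfl⟩
  let σr : E₀ →+* IsLocalRing.ResidueField T :=
    (IsLocalRing.ResidueField.map f).comp ((eκ.symm : _ →+* _).comp
      ((IsLocalRing.residue B).comp (algebraMap E₀ B)))
  have hσr : ∀ e : E₀, σr e = IsLocalRing.ResidueField.map f
      (eκ.symm (IsLocalRing.residue B (algebraMap E₀ B e))) := fun _ => rfl
  let σ₀ : E₀ →ₐ[A₀] IsLocalRing.ResidueField T :=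
    { σr with
      commutes' := fun a => by
        show σr (algebraMap A₀ E₀ a) = _
        rw [hσr]
        have h1 : algebraMap E₀ B (algebraMap A₀ E₀ a) = φ (algebraMap A₀ A a) :=
          (RingHom.congr_fun hφ a).symm
        rw [h1, ← IsLocalRing.ResidueField.map_residue φ]
        have h2 : eκ.symm (IsLocalRing.ResidueField.map φ
            (IsLocalRing.residue A (algebraMap A₀ A a))) =
            IsLocalRing.residue A (algebraMap A₀ A a) := by
          rw [← heκ, eκ.symm_apply_apply]
        rw [h2, IsLocalRing.ResidueField.map_residue]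
        rfl }
  have hG : Hensel.Gabber T (IsLocalRing.maximalIdeal T) := Hensel.Gabber.of_henselianLocalRing T
  let s : T ⊗[A₀] E₀ →ₐ[T] IsLocalRing.ResidueField T :=
    Algebra.TensorProduct.lift (Algebra.ofId T (IsLocalRing.ResidueField T)) σ₀
      (fun _ _ => Commute.all _ _)
  obtain ⟨t, ht⟩ := hG.exists_lift_of_etale (T ⊗[A₀] E₀) s
  let t₀ : E₀ →ₐ[A₀] T := (t.restrictScalars A₀).comp Algebra.TensorProduct.includeRight
  have ht₀ : ∀ e : E₀, IsLocalRing.residue T (t₀ e) = σr e := by
    intro e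
    have h1 := AlgHom.congr_fun ht (1 ⊗ₜ e)
    have h2 : s (1 ⊗ₜ e) = σ₀ e := by
      show Algebra.TensorProduct.lift (Algebra.ofId T (IsLocalRing.ResidueField T)) σ₀
        (fun _ _ => Commute.all _ _) (1 ⊗ₜ e) = _
      rw [Algebra.TensorProduct.lift_tmul, map_one, one_mul]
    exact h1.trans h2
  -- units
  have hunit_iff : ∀ e : E₀, IsUnit (t₀ e) ↔ IsUnit (algebraMap E₀ B e) := by
    intro e
    rw [← IsLocalRing.residue_ne_zero_iff_isUnit, ht₀, hσr,
      ← IsLocalRing.residue_ne_zero_iff_isUnit]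
    rw [Ne, Ne, map_eq_zero_iff _ (IsLocalRing.ResidueField.map f).injective,
      map_eq_zero_iff _ eκ.symm.injective]
  have hunits : ∀ y : q₀.primeCompl, IsUnit (t₀.toRingHom y) := fun y =>
    (hunit_iff y).2 (IsLocalization.map_units B y)
  let f' : B →+* T := IsLocalization.lift (M := q₀.primeCompl) (g := t₀.toRingHom) hunits
  have hf' : ∀ e : E₀, f' (algebraMap E₀ B e) = t₀ e := fun e => IsLocalization.lift_eq _ e
  refine ⟨f', ⟨fun b hb => ?_⟩, ?_⟩
  · obtain ⟨e, y, rfl⟩ := IsLocalization.exists_mk'_eq q₀.primeCompl b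
    have h1 : f' (IsLocalization.mk' B e y) * t₀ y = t₀ e := by
      rw [← hf' y, ← map_mul, IsLocalization.mk'_spec, hf']
    have h2 : IsUnit (t₀ e) := by
      rw [← h1]
      exact hb.mul (hunits y)
    have h3 : IsUnit (algebraMap E₀ B e) := (hunit_iff e).1 h2
    have h4 : IsLocalization.mk' B e y * algebraMap E₀ B y = algebraMap E₀ B e :=
      IsLocalization.mk'_spec B e y
    exact isUnit_of_mul_isUnit_left (h4 ▸ h3)
  · apply IsLocalization.ringHom_ext p₀.primeCompl
    ext a
    simp only [RingHom.comp_apply]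
    have h1 : φ (algebraMap A₀ A a) = algebraMap E₀ B (algebraMap A₀ E₀ a) :=
      RingHom.congr_fun hφ a
    rw [h1, hf', AlgHom.commutes]
    rfl

include q₀ hφ hres hmax in
/-- Uniqueness of extensions. -/
theorem extension_unique (T : Type u) [CommRing T] [HenselianLocalRing T] (f : A →+* T)
    [IsLocalHom f] (f₁ f₂ : B →+* T) (h₁ : f₁.comp φ = f) (h₂ : f₂.comp φ = f) : f₁ = f₂ := by
  letI : Algebra A₀ T := (f.comp (algebraMap A₀ A)).toAlgebra
  have hloc : ∀ f' : B →+* T, f'.comp φ = f → IsLocalHom f' := by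
    intro f' hf'
    apply ((IsLocalRing.local_hom_TFAE f').out 0 2 rfl rfl).mpr
    rw [← hmax, Ideal.map_map, hf']
    exact ((IsLocalRing.local_hom_TFAE f).out 0 2 rfl rfl).mp inferInstance
  haveI := hloc f₁ h₁
  haveI := hloc f₂ h₂
  have hκ : IsLocalRing.ResidueField.map f₁ = IsLocalRing.ResidueField.map f₂ := by
    ext x
    obtain ⟨y, rfl⟩ := hres x
    have e1 : (IsLocalRing.ResidueField.map f₁).comp (IsLocalRing.ResidueField.map φ) =
        (IsLocalRing.ResidueField.map f₂).comp (IsLocalRing.ResidueField.map φ) := by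
      rw [← IsLocalRing.ResidueField.map_comp, ← IsLocalRing.ResidueField.map_comp]
      congr 1
      rw [h₁, h₂]
    exact RingHom.congr_fun e1 y
  have hcomm : ∀ (f' : B →+* T), f'.comp φ = f → ∀ a : A₀,
      f' (algebraMap E₀ B (algebraMap A₀ E₀ a)) = algebraMap A₀ T a := by
    intro f' hf' a
    have h1 : algebraMap E₀ B (algebraMap A₀ E₀ a) = φ (algebraMap A₀ A a) :=
      (RingHom.congr_fun hφ a).symm
    rw [h1]
    exact RingHom.congr_fun hf' _
  let t₁ : E₀ →ₐ[A₀] T := { f₁.comp (algebraMap E₀ B) with commutes' := hcomm f₁ h₁ }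
  let t₂ : E₀ →ₐ[A₀] T := { f₂.comp (algebraMap E₀ B) with commutes' := hcomm f₂ h₂ }
  have ht : t₁ = t₂ := by
    apply Hensel.algHom_eq_of_formallyUnramified (IsLocalRing.maximalIdeal T)
      (IsLocalRing.jacobson_eq_maximalIdeal ⊥ bot_ne_top).ge
    intro x
    rw [← Ideal.Quotient.eq]
    show IsLocalRing.residue T (f₁ (algebraMap E₀ B x)) =
      IsLocalRing.residue T (f₂ (algebraMap E₀ B x))
    rw [← IsLocalRing.ResidueField.map_residue f₁, ← IsLocalRing.ResidueField.map_residue f₂, hκ]
  apply IsLocalization.ringHom_ext q₀.primeCompl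
  ext e
  exact AlgHom.congr_fun ht e

include q₀ p₀ hφ hres hmax in
/-- A henselization of `B` is a henselization of `A`. -/
theorem isHenselization_comp (R : Type u) [CommRing R] [IsLocalRing R] [Algebra B R]
    [IsLocalHom (algebraMap B R)] [hR : Hensel.IsHenselization B R] :
    letI : Algebra A R := ((algebraMap B R).comp φ).toAlgebra
    ∃ (_ : IsLocalHom (algebraMap A R)), Hensel.IsHenselization A R := by
  letI : Algebra A R := ((algebraMap B R).comp φ).toAlgebra
  have hloc : IsLocalHom (algebraMap A R) := RingHom.isLocalHom_comp (algebraMap B R) φ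
  refine ⟨hloc, ⟨hR.henselian, ?_⟩⟩
  intro T _ _ f hf
  haveI := hf
  obtain ⟨f', hf'loc, hf'⟩ := exists_extension q₀ p₀ φ hφ hres T f
  obtain ⟨g, hg, hguniq⟩ := hR.universal T f' hf'loc
  refine ⟨g, ?_, ?_⟩
  · show g.comp ((algebraMap B R).comp φ) = f
    rw [← RingHom.comp_assoc, hg, hf']
  · intro g' hg'
    apply hguniq
    apply extension_unique q₀ φ hφ hres hmax T f
    · rw [RingHom.comp_assoc]
      exact hg'
    · exact hf'

end Groth.Agent.Helper2.HensLocalEtale
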