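import Mathlib
import Groth.Prelude.Def_Hensel
import Groth.Agent.Lib.Helper7.SHens.Abstract
import Groth.Agent.Lib.Helper7.SHens.Noeth
import Groth.Agent.Lib.Helper7.Hensel.IntegralDomain
import Groth.Agent.Lib.Lead.Wt11

/-!
# Strict henselization commutes with quotients (helper2)
-/

set_option autoImplicit false
set_option linter.style.haveILetI false

universe u

namespace Groth.Agent.Helper2.SHensQuot

open IsLocalRing

variable (B R : Type u) [CommRing B] [IsLocalRing B] [CommRing R] [IsLocalRing R] [Algebra B R]
  [IsLocalHom (algebraMap B R)] [hS : Hensel.IsStrictHenselization B R] (I : Ideal B)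
  [IsLocalRing (B ⧸ I)] [IsLocalRing (R ⧸ I.map (algebraMap B R))]
  [IsLocalHom (algebraMap (B ⧸ I) (R ⧸ I.map (algebraMap B R)))]

/-- The residue field of a local quotient. -/
noncomputable def resEquiv (A : Type u) [CommRing A] [IsLocalRing A] (J : Ideal A)
    [IsLocalRing (A ⧸ J)] [IsLocalHom (Ideal.Quotient.mk J)] :
    ResidueField A ≃+* ResidueField (A ⧸ J) :=
  RingEquiv.ofBijective (ResidueField.map (Ideal.Quotient.mk J))
    ⟨(ResidueField.map (Ideal.Quotient.mk J)).injective, fun y => by
      obtain ⟨y, rfl⟩ := residue_surjective y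
      obtain ⟨a, rfl⟩ := Ideal.Quotient.mk_surjective y
      exact ⟨residue A a, ResidueField.map_residue _ a⟩⟩

theorem resEquiv_residue (A : Type u) [CommRing A] [IsLocalRing A] (J : Ideal A)
    [IsLocalRing (A ⧸ J)] [IsLocalHom (Ideal.Quotient.mk J)] (a : A) :
    resEquiv A J (residue A a) = residue (A ⧸ J) (Ideal.Quotient.mk J a) :=
  ResidueField.map_residue _ a

include hS in
theorem isStrictHenselization_quotient :
    Hensel.IsStrictHenselization (B ⧸ I) (R ⧸ I.map (algebraMap B R)) := by
  haveI hl1 : IsLocalHom (Ideal.Quotient.mk I) :=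
    IsLocalHom.of_surjective _ Ideal.Quotient.mk_surjective
  haveI hl2 : IsLocalHom (Ideal.Quotient.mk (I.map (algebraMap B R))) :=
    IsLocalHom.of_surjective _ Ideal.Quotient.mk_surjective
  haveI hh : HenselianLocalRing R := hS.henselian
  haveI hsc : IsSepClosure (ResidueField B) (ResidueField R) := hS.isSepClosure
  have hcomm : ∀ x : ResidueField B,
      resEquiv R (I.map (algebraMap B R)) (algebraMap (ResidueField B) (ResidueField R) x) =
        algebraMap (ResidueField (B ⧸ I)) (ResidueField (R ⧸ I.map (algebraMap B R)))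
          (resEquiv B I x) := by
    intro x
    obtain ⟨b, rfl⟩ := residue_surjective x
    rw [ResidueField.algebraMap_residue, resEquiv_residue, resEquiv_residue,
      ResidueField.algebraMap_residue, Ideal.Quotient.algebraMap_quotient_map_quotient]
  refine ⟨?_, ⟨?_, ?_⟩, ?_⟩
  · haveI : Algebra.IsIntegral R (R ⧸ I.map (algebraMap B R)) :=
      Algebra.IsIntegral.of_surjective (Ideal.Quotient.mkₐ R (I.map (algebraMap B R)))
        (Ideal.Quotient.mkₐ_surjective R _)
    exact Groth.Agent.Helper7.Hensel.henselianLocalRing_of_isIntegral_of_isLocalRing R _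
  · haveI := hsc.sep_closed
    exact Groth.Agent.Lead.Wt.isSepClosed_of_ringEquiv (resEquiv R (I.map (algebraMap B R)))
  · haveI := hsc.separable
    exact Algebra.IsSeparable.of_equiv_equiv (resEquiv B I) (resEquiv R (I.map (algebraMap B R)))
      (RingHom.ext fun x => (hcomm x).symm)
  · intro T _ _ f _ τ hτ
    haveI : IsLocalHom (f.comp (Ideal.Quotient.mk I)) := RingHom.isLocalHom_comp _ _
    have hτ₀ : (τ.comp (resEquiv R (I.map (algebraMap B R)) : ResidueField R →+* _)).comp
        (ResidueField.map (algebraMap B R)) = ResidueField.map (f.comp (Ideal.Quotient.mk I)) := by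
      apply RingHom.ext
      intro x
      obtain ⟨b, rfl⟩ := residue_surjective x
      have h1 := RingHom.congr_fun hτ (residue _ (Ideal.Quotient.mk I b))
      simp only [RingHom.comp_apply, ResidueField.map_residue] at h1 ⊢
      rw [RingEquiv.coe_toRingHom, resEquiv_residue]
      rw [Ideal.Quotient.algebraMap_quotient_map_quotient] at h1
      exact h1
    obtain ⟨g₀, ⟨hg1, hg2⟩, hguniq⟩ := hS.universal T (f.comp (Ideal.Quotient.mk I))
      (τ.comp (resEquiv R (I.map (algebraMap B R)) : ResidueField R →+* _)) hτ₀
    have hker : ∀ r ∈ I.map (algebraMap B R), g₀ r = 0 := by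
      intro r hr
      have hle : I.map (algebraMap B R) ≤ RingHom.ker g₀ := by
        rw [Ideal.map_le_iff_le_comap]
        intro b hb
        rw [Ideal.mem_comap, RingHom.mem_ker]
        have := RingHom.congr_fun hg1 b
        rw [RingHom.comp_apply] at this
        rw [this, RingHom.comp_apply, Ideal.Quotient.eq_zero_iff_mem.mpr hb, map_zero]
      exact hle hr
    refine ⟨Ideal.Quotient.lift _ g₀ hker, ⟨?_, ?_⟩, ?_⟩
    · apply RingHom.ext
      intro y
      obtain ⟨b, rfl⟩ := Ideal.Quotient.mk_surjective y
      rw [RingHom.comp_apply, Ideal.Quotient.algebraMap_quotient_map_quotient,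
        Ideal.Quotient.lift_mk]
      exact RingHom.congr_fun hg1 b
    · intro y
      obtain ⟨r, rfl⟩ := Ideal.Quotient.mk_surjective y
      rw [Ideal.Quotient.lift_mk, hg2, RingHom.comp_apply, RingEquiv.coe_toRingHom,
        resEquiv_residue]
    · rintro g' ⟨hg'1, hg'2⟩
      have h2 : g'.comp (Ideal.Quotient.mk (I.map (algebraMap B R))) = g₀ := by
        apply hguniq
        refine ⟨?_, ?_⟩
        · apply RingHom.ext
          intro b
          have := RingHom.congr_fun hg'1 (Ideal.Quotient.mk I b)
          rw [RingHom.comp_apply, Ideal.Quotient.algebraMap_quotient_map_quotient] at this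
          simp only [RingHom.comp_apply]
          exact this
        · intro r
          rw [RingHom.comp_apply, hg'2, RingHom.comp_apply, RingEquiv.coe_toRingHom,
            resEquiv_residue]
      apply RingHom.ext
      intro y
      obtain ⟨r, rfl⟩ := Ideal.Quotient.mk_surjective y
      rw [Ideal.Quotient.lift_mk, ← h2, RingHom.comp_apply]

end Groth.Agent.Helper2.SHensQuot
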