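import Mathlib
import Groth.Agent.Lib.Helper2.Ring.SHensQuot
import Groth.Agent.Lib.Helper2.Ring.SHensFlat
import Groth.Agent.Lib.Helper3.FibStalk2
import Groth.Agent.Lib.Helper2.Sch.GorEtale

/-!
# Gorenstein fibres and strict henselizations (helper2)
-/

set_option autoImplicit false
set_option linter.style.haveILetI false

universe u

open IsLocalRing

namespace Groth.Agent.Helper2.SHensGor

open Groth.Agent.Helper2.SHensQuot Groth.Agent.Helper8.GorFlat

set_option maxHeartbeats 800000 in
/-- The fibre ring of a local homomorphism is Gorenstein iff its base change to the strict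
henselization of the target is. -/
theorem gor_fibre_iff_strictHenselization {A B : Type u} [CommRing A] [CommRing B]
    [IsLocalRing A] [IsLocalRing B] (ψ : A →+* B) [IsLocalHom ψ]
    (R : Type u) [CommRing R] [IsLocalRing R] [Algebra B R] [IsLocalHom (algebraMap B R)]
    [Hensel.IsStrictHenselization B R]
    {F : Type u} [CommRing F] [IsLocalRing F] [IsNoetherianRing F] (γ : B →+* F)
    (hγ : Function.Surjective γ) (hk : RingHom.ker γ = (maximalIdeal A).map ψ)
    (J : Ideal R) (hJ : J = (maximalIdeal A).map ((algebraMap B R).comp ψ)) :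
    LocCoh.IsGorensteinLocalRing F ↔ LocCoh.IsGorensteinLocalRing (R ⧸ J) := by
  obtain ⟨I, hIdef⟩ : ∃ I : Ideal B, I = (maximalIdeal A).map ψ := ⟨_, rfl⟩
  have hI : I ≤ maximalIdeal B := by
    rw [hIdef]
    exact ((IsLocalRing.local_hom_TFAE ψ).out 0 2 rfl rfl).mp inferInstance
  have hJ' : J = I.map (algebraMap B R) := by rw [hJ, hIdef, Ideal.map_map]
  subst hJ'
  have hI' : I.map (algebraMap B R) ≤ maximalIdeal R :=
    (Ideal.map_mono hI).trans
      (((IsLocalRing.local_hom_TFAE (algebraMap B R)).out 0 2 rfl rfl).mp inferInstance)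
  haveI : IsLocalRing (B ⧸ I) := isLocalRing_quot I hI
  haveI : IsLocalRing (R ⧸ I.map (algebraMap B R)) := isLocalRing_quot _ hI'
  haveI hl2 : IsLocalHom (Ideal.Quotient.mk (I.map (algebraMap B R))) :=
    IsLocalHom.of_surjective _ Ideal.Quotient.mk_surjective
  haveI : IsLocalHom (algebraMap (B ⧸ I) (R ⧸ I.map (algebraMap B R))) := by
    constructor
    intro y hy
    obtain ⟨b, rfl⟩ := Ideal.Quotient.mk_surjective y
    rw [Ideal.Quotient.algebraMap_quotient_map_quotient] at hy
    have h1 : IsUnit (algebraMap B R b) := isUnit_of_map_unit _ _ hy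
    exact (isUnit_of_map_unit (algebraMap B R) b h1).map _
  let e : (B ⧸ I) ≃+* F :=
    (Ideal.quotEquivOfEq (hk.trans hIdef.symm).symm).trans
      (RingHom.quotientKerEquivOfSurjective hγ)
  haveI : IsNoetherianRing (B ⧸ I) := isNoetherianRing_of_ringEquiv F e.symm
  haveI := isStrictHenselization_quotient B R I
  haveI : IsNoetherianRing (R ⧸ I.map (algebraMap B R)) :=
    (Groth.Agent.Helper7.SHens.isNoetherianRing_iff_of_isStrictHenselization (B ⧸ I)
      (R ⧸ I.map (algebraMap B R))).mp inferInstance
  have hfl : (algebraMap B R).Flat :=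
    RingHom.flat_algebraMap_iff.mpr (Groth.Agent.Helper7.SHens.flat_of_isStrictHenselization B R)
  have key := Groth.Agent.Helper3.FibStalk.gor_comp_iff ψ (algebraMap B R) hfl γ hγ hk
    (Ideal.Quotient.mk (I.map (algebraMap B R))) Ideal.Quotient.mk_surjective
    (by rw [Ideal.mk_ker, hIdef, Ideal.map_map])
    (residue R) residue_surjective
    (by rw [ker_residue, Groth.Agent.Helper7.SHens.map_maximalIdeal_of_isStrictHenselization B R])
  exact ⟨fun h => key.mpr ⟨h, Groth.Agent.Helper2.GorSch.isGorensteinLocalRing_of_isField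
    (Field.toIsField _)⟩, fun h => (key.mp h).1⟩

end Groth.Agent.Helper2.SHensGor
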