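import Mathlib
import Groth.Prelude.Def_Hensel
import Groth.Prelude.Def_EtBase
import Groth.Agent.Lib.Helper7.SHens.Universal
import Groth.Agent.Lib.Helper9.FE.StrictHensCrit

/-!
# The colimit `G A K` of etale `A`-algebras with a `K`-point, over the local ring of the point
(helper2)

For a ring `A`, a field `K` and `A → K` with kernel `q`, the ring `G A K` of helper7 is an algebra
over `A_q`, the structure map is local, and `G A K` is strictly henselian when `K` is separably
closed.
-/

set_option autoImplicit false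

open CategoryTheory CategoryTheory.Limits TensorProduct Polynomial

namespace Groth.Agent.Helper2.SHensLoc
open Groth.Agent.Helper7.SHens

universe u

variable (A : Type u) [CommRing A] (K : Type u) [Field K] [Algebra A K]

/-- The kernel of `A → K`. -/
abbrev kerK : Ideal A := RingHom.ker (algebraMap A K)

instance kerK_isPrime : (kerK A K).IsPrime := RingHom.ker_isPrime _

/-- The local ring of `A` at the kernel of `A → K`. -/
abbrev Loc : Type u := Localization.AtPrime (kerK A K)

theorem isUnit_algebraMap_K (y : (kerK A K).primeCompl) : IsUnit (algebraMap A K y) := by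
  rw [isUnit_iff_ne_zero]
  intro h
  exact y.2 ((RingHom.mem_ker).2 h)

theorem isUnit_algebraMap_G (y : (kerK A K).primeCompl) : IsUnit (algebraMap A (G A K) y) := by
  apply isUnit_of_isUnit_σ
  rw [AlgHom.commutes]
  exact isUnit_algebraMap_K A K y

/-- `K` as an algebra over the local ring. -/
noncomputable instance algLocK : Algebra (Loc A K) K :=
  (IsLocalization.lift (M := (kerK A K).primeCompl) (g := algebraMap A K)
    (isUnit_algebraMap_K A K)).toAlgebra

instance towerLocK : IsScalarTower A (Loc A K) K :=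
  IsScalarTower.of_algebraMap_eq fun a => by
    show algebraMap A K a = IsLocalization.lift (M := (kerK A K).primeCompl)
      (isUnit_algebraMap_K A K) (algebraMap A (Loc A K) a)
    rw [IsLocalization.lift_eq]

/-- `G A K` as an algebra over the local ring. -/
noncomputable instance algLocG : Algebra (Loc A K) (G A K) :=
  (IsLocalization.lift (M := (kerK A K).primeCompl) (g := algebraMap A (G A K))
    (isUnit_algebraMap_G A K)).toAlgebra

instance towerLocG : IsScalarTower A (Loc A K) (G A K) :=
  IsScalarTower.of_algebraMap_eq fun a => by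
    show algebraMap A (G A K) a = IsLocalization.lift (M := (kerK A K).primeCompl)
      (isUnit_algebraMap_G A K) (algebraMap A (Loc A K) a)
    rw [IsLocalization.lift_eq]

/-- `σ` is linear over the local ring. -/
theorem σ_algebraMap_loc (r : Loc A K) :
    (σ : G A K →ₐ[A] K) (algebraMap (Loc A K) (G A K) r) = algebraMap (Loc A K) K r := by
  have h : ((σ : G A K →ₐ[A] K) : G A K →+* K).comp (algebraMap (Loc A K) (G A K)) =
      algebraMap (Loc A K) K := by
    apply IsLocalization.ringHom_ext (kerK A K).primeCompl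
    ext a
    simp only [RingHom.comp_apply]
    rw [← IsScalarTower.algebraMap_apply A (Loc A K) (G A K),
      ← IsScalarTower.algebraMap_apply A (Loc A K) K]
    exact (σ : G A K →ₐ[A] K).commutes a
  exact RingHom.congr_fun h r

theorem algebraMap_loc_K_eq_zero_iff (r : Loc A K) :
    algebraMap (Loc A K) K r = 0 ↔ r ∈ IsLocalRing.maximalIdeal (Loc A K) := by
  obtain ⟨a, s, rfl⟩ := IsLocalization.exists_mk'_eq (kerK A K).primeCompl r
  rw [IsLocalization.AtPrime.mk'_mem_maximal_iff (Loc A K) (kerK A K)]
  have h1 : algebraMap (Loc A K) K (IsLocalization.mk' (Loc A K) a s) * algebraMap A K s =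
      algebraMap A K a := by
    rw [IsScalarTower.algebraMap_apply A (Loc A K) K, IsScalarTower.algebraMap_apply A (Loc A K) K,
      ← map_mul, IsLocalization.mk'_spec]
  have hs : algebraMap A K s ≠ 0 := (isUnit_algebraMap_K A K s).ne_zero
  constructor
  · intro h
    rw [h, zero_mul] at h1
    exact RingHom.mem_ker.2 h1.symm
  · intro h
    have h2 : algebraMap A K a = 0 := RingHom.mem_ker.1 h
    rw [h2] at h1
    exact (mul_eq_zero.1 h1).resolve_right hs

instance isLocalHom_loc_K : IsLocalHom (algebraMap (Loc A K) K) where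
  map_nonunit r hr := by
    by_contra hnu
    have : r ∈ IsLocalRing.maximalIdeal (Loc A K) := (IsLocalRing.mem_maximalIdeal r).2 hnu
    rw [← algebraMap_loc_K_eq_zero_iff] at this
    rw [this] at hr
    exact not_isUnit_zero hr

instance isLocalHom_loc_G : IsLocalHom (algebraMap (Loc A K) (G A K)) where
  map_nonunit r hr := by
    have h1 := hr.map (σ : G A K →ₐ[A] K)
    rw [σ_algebraMap_loc] at h1
    exact (isLocalHom_loc_K A K).map_nonunit r h1

instance isLocalHom_σ : IsLocalHom ((σ : G A K →ₐ[A] K) : G A K →+* K) where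
  map_nonunit c hc := by
    rw [isUnit_iff_σ_ne_zero]
    exact isUnit_iff_ne_zero.mp hc

/-- Lifting simple roots along `σ`. -/
theorem exists_root_σ (P : (G A K)[X]) (ω : K) (hP : P.Monic)
    (h0 : (P.map ((σ : G A K →ₐ[A] K) : G A K →+* K)).eval ω = 0)
    (h1 : (P.map ((σ : G A K →ₐ[A] K) : G A K →+* K)).derivative.eval ω ≠ 0) :
    ∃ a : G A K, P.eval a = 0 ∧ (σ : G A K →ₐ[A] K) a = ω := by
  obtain ⟨U, F, α, hFm, rfl, -⟩ := exists_rep_monic P hP 0
  have hσι : ((σ : G A K →ₐ[A] K) : G A K →+* K).comp (ι U) = (U.sec : U.Ring →+* K) := by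
    ext x
    exact σ_ι U x
  rw [Polynomial.map_map, hσι] at h0 h1
  let Pr : StandardEtalePair U.Ring :=
    { f := F
      monic_f := hFm
      g := derivative F
      cond := ⟨1, 0, 1, by ring⟩ }
  let _ : Algebra A Pr.Ring := ((algebraMap U.Ring Pr.Ring).comp (algebraMap A U.Ring)).toAlgebra
  have htower : IsScalarTower A U.Ring Pr.Ring := IsScalarTower.of_algebraMap_eq (fun _ => rfl)
  let _ : Algebra U.Ring K := U.sec.toRingHom.toAlgebra
  have htower' : IsScalarTower A U.Ring K :=
    IsScalarTower.of_algebraMap_eq (fun a => (U.sec.commutes a).symm)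
  have hmap : Pr.HasMap ω := by
    constructor
    · show eval₂ (U.sec : U.Ring →+* K) ω F = 0
      rw [← Polynomial.eval_map]
      exact h0
    · show IsUnit (eval₂ (U.sec : U.Ring →+* K) ω (derivative F))
      rw [← Polynomial.eval_map, isUnit_iff_ne_zero, ← Polynomial.derivative_map]
      exact h1
  let τ₀ : Pr.Ring →ₐ[U.Ring] K := Pr.lift ω hmap
  let τ : Pr.Ring →ₐ[A] K := τ₀.restrictScalars A
  have hτ : τ.comp (IsScalarTower.toAlgHom A U.Ring Pr.Ring) = U.sec := by
    ext y
    exact τ₀.commutes y
  obtain ⟨ψ, hψ, hψσ⟩ := exists_adjoin U Pr.Ring τ hτ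
  refine ⟨ψ Pr.X, ?_, ?_⟩
  · rw [Polynomial.eval_map]
    have h2 : (ι U : U.Ring →+* G A K) = ψ.toRingHom.comp (algebraMap U.Ring Pr.Ring) := by
      ext y
      exact (hψ y).symm
    have h3 : eval₂ (algebraMap U.Ring Pr.Ring) Pr.X F = 0 := Pr.hasMap_X.1
    have h4 := Polynomial.hom_eval₂ F (algebraMap U.Ring Pr.Ring) (ψ : Pr.Ring →+* G A K) Pr.X
    rw [h3, map_zero] at h4
    rw [h2]
    exact h4.symm
  · rw [hψσ]
    exact StandardEtalePair.lift_X Pr ω hmap

/-- `G A K` is strictly henselian when `K` is separably closed. -/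
theorem isStrictlyHenselian_G [IsSepClosed K] : EtCoh.IsStrictlyHenselianLocalRing (G A K) :=
  H9FE.StrictHensCrit.main ((σ : G A K →ₐ[A] K) : G A K →+* K)
    (fun a h => isUnit_of_isUnit_σ a (isUnit_iff_ne_zero.2 h))
    (fun P ω hP h0 h1 => exists_root_σ A K P ω hP h0 h1)

end Groth.Agent.Helper2.SHensLoc
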