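import Mathlib
import Groth.Agent.Lib.Helper2.Ring.SHensLocA

/-!
# The residue field of `G A K` is a separable closure of the residue field at the point (helper2)
-/

set_option autoImplicit false

open CategoryTheory CategoryTheory.Limits TensorProduct Polynomial

namespace Groth.Agent.Helper2.SHensLoc
open Groth.Agent.Helper7.SHens

universe u

variable (A : Type u) [CommRing A] (K : Type u) [Field K] [Algebra A K]

/-- `K` as an algebra over the residue field of the local ring. -/
noncomputable instance algResK : Algebra (IsLocalRing.ResidueField (Loc A K)) K :=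
  (IsLocalRing.ResidueField.lift (algebraMap (Loc A K) K)).toAlgebra

instance towerResK : IsScalarTower (Loc A K) (IsLocalRing.ResidueField (Loc A K)) K :=
  IsScalarTower.of_algebraMap_eq fun r => by
    show algebraMap (Loc A K) K r = IsLocalRing.ResidueField.lift (algebraMap (Loc A K) K)
      (IsLocalRing.residue _ r)
    rw [IsLocalRing.ResidueField.lift_residue_apply]

/-- The embedding of the residue field of `G A K` into `K`. -/
noncomputable def resK : IsLocalRing.ResidueField (G A K) →ₐ[IsLocalRing.ResidueField (Loc A K)] K :=
  { IsLocalRing.ResidueField.lift ((σ : G A K →ₐ[A] K) : G A K →+* K) with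
    commutes' := fun y => by
      obtain ⟨r, rfl⟩ := IsLocalRing.residue_surjective y
      show IsLocalRing.ResidueField.lift ((σ : G A K →ₐ[A] K) : G A K →+* K)
        (algebraMap _ (IsLocalRing.ResidueField (G A K)) (IsLocalRing.residue _ r)) = _
      rw [IsLocalRing.ResidueField.algebraMap_residue, IsLocalRing.ResidueField.lift_residue_apply]
      show (σ : G A K →ₐ[A] K) (algebraMap (Loc A K) (G A K) r) = _
      rw [σ_algebraMap_loc]
      exact IsScalarTower.algebraMap_apply (Loc A K) (IsLocalRing.ResidueField (Loc A K)) K r }

theorem resK_residue (c : G A K) : resK A K (IsLocalRing.residue _ c) = (σ : G A K →ₐ[A] K) c :=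
  IsLocalRing.ResidueField.lift_residue_apply _ c

variable {A K}

/-- The value of a section of an etale algebra is separable over the residue field. -/
theorem isSeparable_sec (U : Nbhd A K) (x : U.Ring) :
    IsSeparable (IsLocalRing.ResidueField (Loc A K)) (U.sec x) := by
  let qU : Ideal U.Ring := RingHom.ker (U.sec : U.Ring →+* K)
  haveI : qU.IsPrime := RingHom.ker_isPrime _
  haveI : qU.LiesOver (kerK A K) := ⟨by
    ext a
    rw [Ideal.mem_comap, RingHom.mem_ker, RingHom.mem_ker]
    show _ ↔ U.sec (algebraMap A U.Ring a) = 0
    rw [AlgHom.commutes]⟩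
  letI := Localization.AtPrime.algebraOfLiesOver (kerK A K) qU
  haveI : Algebra.FormallyUnramified A (Localization.AtPrime qU) :=
    Algebra.FormallyUnramified.comp A U.Ring _
  haveI : Algebra.IsUnramifiedAt A qU := inferInstance
  have hsep : Algebra.IsSeparable (kerK A K).ResidueField qU.ResidueField := inferInstance
  let j : qU.ResidueField →+* K := Ideal.ResidueField.lift qU (U.sec : U.Ring →+* K) le_rfl
    (fun y hy => by
      show IsUnit (U.sec y)
      rw [isUnit_iff_ne_zero]
      exact fun h => hy (RingHom.mem_ker.2 h))
  have hj : ∀ y : U.Ring, j (algebraMap U.Ring qU.ResidueField y) = U.sec y := fun y =>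
    Ideal.ResidueField.lift_algebraMap _ _ _ _ y
  have hjc : ∀ y : (kerK A K).ResidueField,
      j (algebraMap (kerK A K).ResidueField qU.ResidueField y) =
        algebraMap (IsLocalRing.ResidueField (Loc A K)) K y := by
    intro y
    have h : (j.comp (algebraMap (kerK A K).ResidueField qU.ResidueField)) =
        algebraMap (IsLocalRing.ResidueField (Loc A K)) K := by
      apply Ideal.ResidueField.ringHom_ext
      ext a
      simp only [RingHom.comp_apply]
      rw [← IsScalarTower.algebraMap_apply A (kerK A K).ResidueField qU.ResidueField,
        IsScalarTower.algebraMap_apply A U.Ring qU.ResidueField, hj, AlgHom.commutes,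
        IsScalarTower.algebraMap_apply A (Loc A K) (IsLocalRing.ResidueField (Loc A K)),
        ← IsScalarTower.algebraMap_apply (Loc A K) (IsLocalRing.ResidueField (Loc A K)) K,
        ← IsScalarTower.algebraMap_apply A (Loc A K) K]
    exact RingHom.congr_fun h y
  let jA : qU.ResidueField →ₐ[(kerK A K).ResidueField] K := { j with commutes' := hjc }
  have := (Algebra.IsSeparable.isSeparable (kerK A K).ResidueField
    (algebraMap U.Ring qU.ResidueField x)).map jA jA.injective
  rw [← hj x]
  exact this

variable (A K)

instance isSeparable_residueField_G :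
    Algebra.IsSeparable (IsLocalRing.ResidueField (Loc A K)) (IsLocalRing.ResidueField (G A K)) := by
  refine ⟨fun z => ?_⟩
  obtain ⟨c, rfl⟩ := IsLocalRing.residue_surjective z
  rw [← isSeparable_map_iff (resK A K) (resK A K).injective, resK_residue]
  obtain ⟨U, x, rfl⟩ := exists_rep c
  rw [σ_ι]
  exact isSeparable_sec U x

theorem isSepClosure_residueField_G [IsSepClosed K] :
    IsSepClosure (IsLocalRing.ResidueField (Loc A K)) (IsLocalRing.ResidueField (G A K)) := by
  obtain ⟨h1, h2⟩ := isStrictlyHenselian_G A K
  exact ⟨h2, inferInstance⟩

end Groth.Agent.Helper2.SHensLoc
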