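import Mathlib
import Groth.Agent.Lib.Helper2.Ring.SHensLocB

/-!
# `G A K` is a strict henselization of the local ring of `A` at the kernel of `A → K` (helper2)
-/

set_option autoImplicit false

open CategoryTheory CategoryTheory.Limits TensorProduct Polynomial

namespace Groth.Agent.Helper2.SHensLoc
open Groth.Agent.Helper7.SHens Groth.Agent.Helper7

universe u

variable {A : Type u} [CommRing A] {K : Type u} [Field K] [Algebra A K]

section

variable {T : Type u} [CommRing T] [HenselianLocalRing T] [Algebra A T] [Algebra (Loc A K) T]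
  [IsScalarTower A (Loc A K) T] [IsLocalHom (algebraMap (Loc A K) T)]
  (τ : IsLocalRing.ResidueField (G A K) →+* IsLocalRing.ResidueField T)
  (hτ : τ.comp (IsLocalRing.ResidueField.map (algebraMap (Loc A K) (G A K)))
    = IsLocalRing.ResidueField.map (algebraMap (Loc A K) T))

/-- The map from a stage to the residue field of `T` induced by `τ`. -/
noncomputable def stageRes (U : Nbhd A K) : U.Ring →ₐ[A] IsLocalRing.ResidueField T :=
  { τ.comp ((IsLocalRing.residue (G A K)).comp (ι U)) with
    commutes' := fun a => by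
      show τ (IsLocalRing.residue (G A K) (ι U (algebraMap A U.Ring a))) = _
      rw [ι_algebraMap, IsScalarTower.algebraMap_apply A (Loc A K) (G A K),
        ← IsLocalRing.ResidueField.map_residue, ← RingHom.comp_apply, hτ,
        IsLocalRing.ResidueField.map_residue, ← IsScalarTower.algebraMap_apply A (Loc A K) T]
      rfl }

theorem stageRes_apply (U : Nbhd A K) (x : U.Ring) :
    stageRes τ hτ U x = τ (IsLocalRing.residue (G A K) (ι U x)) := rfl

theorem stageRes_hom {U V : Nbhd A K} (f : U ⟶ V) (x : U.Ring) :
    stageRes τ hτ V ((f : Nbhd.Hom U V).toAlgHom x) = stageRes τ hτ U x := by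
  rw [stageRes_apply, stageRes_apply, ι_hom]

/-- Existence of the map from a stage to a henselian local ring. -/
theorem exists_stageHom (U : Nbhd A K) :
    ∃ ψ : U.Ring →ₐ[A] T, ∀ x, IsLocalRing.residue T (ψ x) = stageRes τ hτ U x := by
  have hG : Hensel.Gabber T (IsLocalRing.maximalIdeal T) := Hensel.Gabber.of_henselianLocalRing T
  let s : T ⊗[A] U.Ring →ₐ[T] IsLocalRing.ResidueField T :=
    Algebra.TensorProduct.lift (Algebra.ofId T (IsLocalRing.ResidueField T))
      (stageRes τ hτ U) (fun _ _ => Commute.all _ _)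
  obtain ⟨t, ht⟩ := hG.exists_lift_of_etale (T ⊗[A] U.Ring) s
  refine ⟨(t.restrictScalars A).comp Algebra.TensorProduct.includeRight, fun x => ?_⟩
  have h1 := AlgHom.congr_fun ht (1 ⊗ₜ x)
  have h2 : s (1 ⊗ₜ x) = stageRes τ hτ U x := by
    show Algebra.TensorProduct.lift (Algebra.ofId T (IsLocalRing.ResidueField T))
      (stageRes τ hτ U) (fun _ _ => Commute.all _ _) (1 ⊗ₜ x) = _
    rw [Algebra.TensorProduct.lift_tmul, map_one, one_mul]
  exact h1.trans h2

omit [Algebra (Loc A K) T] [IsScalarTower A (Loc A K) T] [IsLocalHom (algebraMap (Loc A K) T)] in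
theorem stageHom_unique (U : Nbhd A K) (ψ ψ' : U.Ring →ₐ[A] T)
    (h : ∀ x, IsLocalRing.residue T (ψ x) = IsLocalRing.residue T (ψ' x)) : ψ = ψ' := by
  apply Hensel.algHom_eq_of_formallyUnramified (IsLocalRing.maximalIdeal T)
    (IsLocalRing.jacobson_eq_maximalIdeal ⊥ bot_ne_top).ge
  intro x
  rw [← Ideal.Quotient.eq]
  exact h x

/-- The chosen map from a stage. -/
noncomputable def stageHom (U : Nbhd A K) : U.Ring →ₐ[A] T := (exists_stageHom τ hτ U).choose

theorem stageHom_spec (U : Nbhd A K) (x : U.Ring) :
    IsLocalRing.residue T (stageHom τ hτ U x) = stageRes τ hτ U x :=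
  (exists_stageHom τ hτ U).choose_spec x

theorem stageHom_comp {U V : Nbhd A K} (f : U ⟶ V) :
    (stageHom τ hτ V).comp (f : Nbhd.Hom U V).toAlgHom = stageHom τ hτ U := by
  apply stageHom_unique
  intro x
  rw [AlgHom.comp_apply, stageHom_spec, stageHom_spec, stageRes_hom]

/-- The induced map out of the colimit. -/
noncomputable def desc : G A K →ₐ[A] T :=
  descAlg (stageHom τ hτ) (fun f => stageHom_comp τ hτ f)

theorem desc_ι (U : Nbhd A K) (x : U.Ring) : desc τ hτ (ι U x) = stageHom τ hτ U x :=
  descAlg_ι _ _ U x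

theorem residue_desc (c : G A K) :
    IsLocalRing.residue T (desc τ hτ c) = τ (IsLocalRing.residue (G A K) c) := by
  obtain ⟨U, x, rfl⟩ := exists_rep c
  rw [desc_ι, stageHom_spec, stageRes_apply]

theorem desc_unique (g : G A K →+* T) (hg : ∀ a, g (algebraMap A (G A K) a) = algebraMap A T a)
    (hres : ∀ c, IsLocalRing.residue T (g c) = τ (IsLocalRing.residue (G A K) c)) :
    g = (desc τ hτ : G A K →+* T) := by
  let gU : ∀ U : Nbhd A K, U.Ring →ₐ[A] T := fun U =>
    { g.comp (ι U) with
      commutes' := fun a => by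
        show g (ι U (algebraMap A U.Ring a)) = _
        rw [ι_algebraMap, hg] }
  apply ringHom_ext_G
  intro U x
  have h1 : gU U = stageHom τ hτ U := by
    apply stageHom_unique
    intro y
    rw [stageHom_spec, stageRes_apply]
    exact hres _
  have h2 := AlgHom.congr_fun h1 x
  show g (ι U x) = desc τ hτ (ι U x)
  rw [desc_ι]
  exact h2

end

/-- **Universal property** of `G A K` over the local ring. -/
theorem universal (T : Type u) [CommRing T] [HenselianLocalRing T] (f : Loc A K →+* T)
    [IsLocalHom f]
    (τ : IsLocalRing.ResidueField (G A K) →+* IsLocalRing.ResidueField T)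
    (hτ : τ.comp (IsLocalRing.ResidueField.map (algebraMap (Loc A K) (G A K)))
      = IsLocalRing.ResidueField.map f) :
    ∃! g : G A K →+* T, g.comp (algebraMap (Loc A K) (G A K)) = f ∧
      ∀ x : G A K, IsLocalRing.residue T (g x) = τ (IsLocalRing.residue (G A K) x) := by
  let _ : Algebra (Loc A K) T := f.toAlgebra
  let _ : Algebra A T := (f.comp (algebraMap A (Loc A K))).toAlgebra
  haveI : IsScalarTower A (Loc A K) T := IsScalarTower.of_algebraMap_eq fun _ => rfl
  have hloc : IsLocalHom (algebraMap (Loc A K) T) := ‹IsLocalHom f›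
  refine ⟨(desc τ hτ : G A K →+* T), ⟨?_, ?_⟩, ?_⟩
  · apply IsLocalization.ringHom_ext (kerK A K).primeCompl
    ext a
    simp only [RingHom.comp_apply]
    rw [← IsScalarTower.algebraMap_apply A (Loc A K) (G A K)]
    exact (desc τ hτ).commutes a
  · exact residue_desc τ hτ
  · rintro g ⟨hg1, hg2⟩
    refine desc_unique τ hτ g (fun a => ?_) hg2
    rw [IsScalarTower.algebraMap_apply A (Loc A K) (G A K)]
    exact RingHom.congr_fun hg1 _

variable (A K)

/-- `G A K` is a strict henselization of the local ring of `A` at the kernel of `A → K`, for a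
separably closed field `K`. -/
theorem isStrictHenselization_G [IsSepClosed K] :
    Hensel.IsStrictHenselization (Loc A K) (G A K) where
  henselian := henselianLocalRing_G A K
  isSepClosure := isSepClosure_residueField_G A K
  universal T _ _ f _ τ hτ := universal T f τ hτ

end Groth.Agent.Helper2.SHensLoc
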