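import Mathlib
import Groth.Prelude.Def_Hensel

/-!
# Transport of strict henselizations along an isomorphism of the base ring (helper2)
-/

set_option autoImplicit false

namespace Groth.Agent.Helper2.SHensBaseTransfer

universe u

variable {R R' S : Type u} [CommRing R] [IsLocalRing R] [CommRing R'] [IsLocalRing R']
  [CommRing S] [IsLocalRing S] [Algebra R S] [IsLocalHom (algebraMap R S)]

/-- The algebra structure over an isomorphic base ring. -/
@[reducible] noncomputable def algOfEquiv (e : R' ≃+* R) : Algebra R' S :=
  ((algebraMap R S).comp (e : R' →+* R)).toAlgebra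

theorem isLocalHom_of_equiv (e : R' ≃+* R) :
    letI := algOfEquiv (S := S) e
    IsLocalHom (algebraMap R' S) := by
  letI := algOfEquiv (S := S) e
  refine ⟨fun a ha => ?_⟩
  have h1 : IsUnit (algebraMap R S (e a)) := ha
  have h2 : IsUnit (e a) := (isUnit_map_iff (algebraMap R S) (e a)).1 h1
  exact (isUnit_map_iff e a).1 h2

theorem isStrictHenselization_of_equiv (e : R' ≃+* R) [h : Hensel.IsStrictHenselization R S] :
    letI := algOfEquiv (S := S) e
    haveI := isLocalHom_of_equiv (S := S) e
    Hensel.IsStrictHenselization R' S := by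
  letI := algOfEquiv (S := S) e
  haveI := isLocalHom_of_equiv (S := S) e
  haveI : IsLocalHom (e : R' →+* R) := ⟨fun a ha => (isUnit_map_iff e a).1 ha⟩
  haveI : IsLocalHom (e.symm : R →+* R') := ⟨fun a ha => (isUnit_map_iff e.symm a).1 ha⟩
  have hmap : IsLocalRing.ResidueField.map (algebraMap R' S) =
      (IsLocalRing.ResidueField.map (algebraMap R S)).comp
        (IsLocalRing.ResidueField.map (e : R' →+* R)) := by
    ext x
    obtain ⟨r, rfl⟩ := IsLocalRing.residue_surjective x
    simp only [RingHom.comp_apply]
    rw [IsLocalRing.ResidueField.map_residue, IsLocalRing.ResidueField.map_residue,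
      IsLocalRing.ResidueField.map_residue]
    rfl
  refine ⟨h.henselian, ?_, ?_⟩
  · obtain ⟨h1, h2⟩ := h.isSepClosure
    refine ⟨h1, ?_⟩
    haveI := h2
    refine Algebra.IsSeparable.of_equiv_equiv (IsLocalRing.ResidueField.mapEquiv e.symm)
      (RingEquiv.refl (IsLocalRing.ResidueField S)) ?_
    ext x
    obtain ⟨r, rfl⟩ := IsLocalRing.residue_surjective x
    simp only [RingHom.comp_apply]
    show algebraMap (IsLocalRing.ResidueField R') (IsLocalRing.ResidueField S)
      (IsLocalRing.ResidueField.map (e.symm : R →+* R') (IsLocalRing.residue R r)) =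
        algebraMap (IsLocalRing.ResidueField R) (IsLocalRing.ResidueField S)
          (IsLocalRing.residue R r)
    rw [IsLocalRing.ResidueField.map_residue, IsLocalRing.ResidueField.algebraMap_residue,
      IsLocalRing.ResidueField.algebraMap_residue]
    show IsLocalRing.residue S (algebraMap R S (e (e.symm r))) = _
    rw [e.apply_symm_apply]
  · intro T _ _ f hf τ hτ
    haveI : IsLocalHom (f.comp (e.symm : R →+* R')) := RingHom.isLocalHom_comp _ _
    have hτ' : τ.comp (IsLocalRing.ResidueField.map (algebraMap R S)) =
        IsLocalRing.ResidueField.map (f.comp (e.symm : R →+* R')) := by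
      ext x
      obtain ⟨r, rfl⟩ := IsLocalRing.residue_surjective x
      have h3 := RingHom.congr_fun hτ (IsLocalRing.residue R' (e.symm r))
      simp only [RingHom.comp_apply] at h3 ⊢
      rw [IsLocalRing.ResidueField.map_residue] at h3 ⊢
      rw [IsLocalRing.ResidueField.map_residue] at h3 ⊢
      have h4 : algebraMap R' S (e.symm r) = algebraMap R S r := by
        show algebraMap R S (e (e.symm r)) = _
        rw [e.apply_symm_apply]
      rw [h4] at h3
      exact h3
    obtain ⟨g, ⟨hg1, hg2⟩, hguniq⟩ := h.universal T (f.comp (e.symm : R →+* R')) τ hτ'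
    refine ⟨g, ⟨?_, hg2⟩, ?_⟩
    · ext a
      have := RingHom.congr_fun hg1 (e a)
      simp only [RingHom.comp_apply] at this ⊢
      show g (algebraMap R S (e a)) = f a
      rw [this]
      show f (e.symm (e a)) = f a
      rw [e.symm_apply_apply]
    · rintro g' ⟨hg'1, hg'2⟩
      apply hguniq
      refine ⟨?_, hg'2⟩
      ext r
      have := RingHom.congr_fun hg'1 (e.symm r)
      simp only [RingHom.comp_apply] at this ⊢
      refine Eq.trans ?_ this
      show g' (algebraMap R S r) = g' (algebraMap R S (e (e.symm r)))
      rw [e.apply_symm_apply]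

end Groth.Agent.Helper2.SHensBaseTransfer
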