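import Mathlib

/-!
# Factoring a ring map through a residue field (helper2)

Let `ψ : A → B` be a ring map with `A` Noetherian and `B` reduced, such that all primes of `B`
lie over a set `E` of primes of `A` without specialization relations.  Then locally on `Spec B`
the map `ψ` factors through the residue field of a prime of `A`.
-/

set_option autoImplicit false

universe u

namespace Groth.Agent.Helper2.ResFieldFactor

open PrimeSpectrum

variable {A B : Type u} [CommRing A] [CommRing B]

/-- An element lying in all primes contained in `q` is killed by an element outside `q` when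
the ring is reduced. -/
theorem exists_mul_eq_zero_of_forall_mem [IsReduced B] (q : Ideal B) [q.IsPrime] (b : B)
    (h : ∀ q' : Ideal B, q'.IsPrime → q' ≤ q → b ∈ q') : ∃ s, s ∉ q ∧ s * b = 0 := by
  have : IsReduced (Localization.AtPrime q) := inferInstance
  have hnil : IsNilpotent (algebraMap B (Localization.AtPrime q) b) := by
    rw [nilpotent_iff_mem_prime]
    intro Q hQ
    have hQ' : (Q.comap (algebraMap B (Localization.AtPrime q))).IsPrime := Ideal.comap_isPrime _ _
    have hle : Q.comap (algebraMap B (Localization.AtPrime q)) ≤ q := by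
      intro y hy
      by_contra hyq
      have hu : IsUnit (algebraMap B (Localization.AtPrime q) y) :=
        IsLocalization.map_units (Localization.AtPrime q) (⟨y, hyq⟩ : q.primeCompl)
      exact hQ.ne_top (Ideal.eq_top_of_isUnit_mem _ hy hu)
    exact h _ hQ' hle
  have hz : algebraMap B (Localization.AtPrime q) b = 0 := hnil.eq_zero
  rw [IsLocalization.map_eq_zero_iff q.primeCompl] at hz
  obtain ⟨m, hm⟩ := hz
  exact ⟨m.1, m.2, hm⟩

/-- The main algebraic lemma. -/
theorem exists_factor [IsNoetherianRing A] [IsReduced B] (ψ : A →+* B)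
    (E : Set (PrimeSpectrum A))
    (hE : ∀ p ∈ E, ∀ p' ∈ E, p.asIdeal ≤ p'.asIdeal → p = p')
    (hψ : ∀ q : PrimeSpectrum B, comap ψ q ∈ E) (q : PrimeSpectrum B) :
    ∃ (s : B), s ∉ q.asIdeal ∧
      ∃ θ : (comap ψ q).asIdeal.ResidueField →+* Localization.Away s,
        θ.comp (algebraMap A (comap ψ q).asIdeal.ResidueField) =
          (algebraMap B (Localization.Away s)).comp ψ := by
  classical
  set p := comap ψ q with hp
  -- step 1
  have h1 : ∀ a ∈ p.asIdeal, ∃ s, s ∉ q.asIdeal ∧ s * ψ a = 0 := by
    intro a ha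
    refine exists_mul_eq_zero_of_forall_mem q.asIdeal (ψ a) ?_
    intro q' hq' hle
    have hmem : comap ψ ⟨q', hq'⟩ ∈ E := hψ _
    have hle' : (comap ψ ⟨q', hq'⟩).asIdeal ≤ p.asIdeal := by
      intro y hy
      exact hle hy
    have heq := hE _ hmem _ (hψ q) hle'
    have : a ∈ (comap ψ ⟨q', hq'⟩).asIdeal := by rw [heq]; exact ha
    exact this
  -- step 2
  obtain ⟨F, hF⟩ : p.asIdeal.FG := IsNoetherian.noetherian _
  choose! σ hσ1 hσ2 using h1
  have hFp : ∀ a ∈ F, a ∈ p.asIdeal := fun a ha => hF ▸ Ideal.subset_span ha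
  let s : B := ∏ a ∈ F, σ a
  have hs : s ∉ q.asIdeal := by
    intro hmem
    obtain ⟨a, ha, hma⟩ := (Ideal.IsPrime.prod_mem_iff).1 hmem
    exact hσ1 a (hFp a ha) hma
  let χ : A →+* Localization.Away s := (algebraMap B (Localization.Away s)).comp ψ
  have hker : p.asIdeal ≤ RingHom.ker χ := by
    rw [← hF, Ideal.span_le]
    intro a ha
    change χ a = 0
    have h0 : s * ψ a = 0 := by
      have : s = (∏ b ∈ F.erase a, σ b) * σ a := (Finset.prod_erase_mul F σ ha).symm
      rw [this, mul_assoc, hσ2 a (hFp a ha), mul_zero]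
    have hu : IsUnit (algebraMap B (Localization.Away s) s) :=
      IsLocalization.Away.algebraMap_isUnit s
    have : algebraMap B (Localization.Away s) s * χ a = 0 := by
      change algebraMap B (Localization.Away s) s * algebraMap B (Localization.Away s) (ψ a) = 0
      rw [← map_mul, h0, map_zero]
    exact (hu.mul_right_eq_zero).1 this
  -- step 3
  have hunit : ∀ a, a ∉ p.asIdeal → IsUnit (χ a) := by
    intro a ha
    by_contra hnu
    obtain ⟨Q, hQmax, hQ⟩ := exists_max_ideal_of_mem_nonunits hnu
    have := hQmax.isPrime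
    let q'' : PrimeSpectrum B := comap (algebraMap B (Localization.Away s)) ⟨Q, hQmax.isPrime⟩
    have hmem : comap ψ q'' ∈ E := hψ _
    have hle' : p.asIdeal ≤ (comap ψ q'').asIdeal := by
      intro y hy
      change χ y ∈ Q
      have : χ y = 0 := hker hy
      rw [this]
      exact Q.zero_mem
    have heq : p = comap ψ q'' := hE _ (hψ q) _ hmem hle'
    apply ha
    rw [heq]
    exact hQ
  -- step 4
  let χbar : A ⧸ p.asIdeal →+* Localization.Away s :=
    Ideal.Quotient.lift p.asIdeal χ (fun a ha => hker ha)
  have hχbar : ∀ y : nonZeroDivisors (A ⧸ p.asIdeal), IsUnit (χbar y) := by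
    rintro ⟨y, hy⟩
    obtain ⟨a, rfl⟩ := Ideal.Quotient.mk_surjective y
    have ha : a ∉ p.asIdeal := by
      intro ha
      have : (Ideal.Quotient.mk p.asIdeal a) = 0 := Ideal.Quotient.eq_zero_iff_mem.2 ha
      exact nonZeroDivisors.ne_zero hy this
    exact hunit a ha
  let θ : p.asIdeal.ResidueField →+* Localization.Away s :=
    IsLocalization.lift (M := nonZeroDivisors (A ⧸ p.asIdeal)) (S := p.asIdeal.ResidueField) hχbar
  refine ⟨s, hs, θ, ?_⟩
  ext a
  have h1 : algebraMap A p.asIdeal.ResidueField a =
      algebraMap (A ⧸ p.asIdeal) p.asIdeal.ResidueField (Ideal.Quotient.mk p.asIdeal a) := by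
    rw [← Ideal.Quotient.algebraMap_eq, ← IsScalarTower.algebraMap_apply]
  change θ (algebraMap A p.asIdeal.ResidueField a) = χ a
  rw [h1]
  change IsLocalization.lift hχbar _ = _
  rw [IsLocalization.lift_eq]
  rfl

end Groth.Agent.Helper2.ResFieldFactor
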