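import Mathlib

/-! Étale neighbourhoods of a ring with a map to a field, and elements of the field lifting to
such neighbourhoods. -/
namespace Groth.Agent.Helper2.RingLib
universe u
open TensorProduct Polynomial

section Liftable

variable (A : Type u) [CommRing A] (F : Type u) [Field F] [Algebra A F]

/-- A family of elements of `F` lifts simultaneously to an étale `A`-algebra mapping to `F`. -/
def LiftableFam {ι : Type*} (t : ι → F) : Prop :=
  ∃ (N : Type u) (_ : CommRing N) (_ : Algebra A N) (_ : Algebra.Etale A N) (pt : N →ₐ[A] F)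
    (ν : ι → N), ∀ i, pt (ν i) = t i

/-- An element of `F` lifts to an étale `A`-algebra mapping to `F`. -/
def Liftable (ω : F) : Prop :=
  ∃ (N : Type u) (_ : CommRing N) (_ : Algebra A N) (_ : Algebra.Etale A N) (pt : N →ₐ[A] F)
    (ν : N), pt ν = ω

variable {A F}

theorem liftable_algebraMap (a : A) : Liftable A F (algebraMap A F a) :=
  ⟨A, inferInstance, inferInstance, inferInstance, Algebra.ofId A F, a, rfl⟩

theorem Liftable.pair {ω₁ ω₂ : F} (h₁ : Liftable A F ω₁) (h₂ : Liftable A F ω₂) :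
    ∃ (N : Type u) (_ : CommRing N) (_ : Algebra A N) (_ : Algebra.Etale A N) (pt : N →ₐ[A] F)
      (ν₁ ν₂ : N), pt ν₁ = ω₁ ∧ pt ν₂ = ω₂ := by
  obtain ⟨N₁, _, _, _, pt₁, ν₁, h₁⟩ := h₁
  obtain ⟨N₂, _, _, _, pt₂, ν₂, h₂⟩ := h₂
  haveI : Algebra.Etale A (N₁ ⊗[A] N₂) := Algebra.Etale.comp A N₁ (N₁ ⊗[A] N₂)
  refine ⟨N₁ ⊗[A] N₂, inferInstance, inferInstance, inferInstance,
    Algebra.TensorProduct.productMap pt₁ pt₂, ν₁ ⊗ₜ 1, 1 ⊗ₜ ν₂, ?_, ?_⟩
  · simp [h₁]
  · simp [h₂]

theorem Liftable.add {ω₁ ω₂ : F} (h₁ : Liftable A F ω₁) (h₂ : Liftable A F ω₂) :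
    Liftable A F (ω₁ + ω₂) := by
  obtain ⟨N, _, _, _, pt, ν₁, ν₂, rfl, rfl⟩ := h₁.pair h₂
  exact ⟨N, inferInstance, inferInstance, inferInstance, pt, ν₁ + ν₂, map_add _ _ _⟩

theorem Liftable.mul {ω₁ ω₂ : F} (h₁ : Liftable A F ω₁) (h₂ : Liftable A F ω₂) :
    Liftable A F (ω₁ * ω₂) := by
  obtain ⟨N, _, _, _, pt, ν₁, ν₂, rfl, rfl⟩ := h₁.pair h₂
  exact ⟨N, inferInstance, inferInstance, inferInstance, pt, ν₁ * ν₂, map_mul _ _ _⟩

theorem Liftable.neg {ω : F} (h : Liftable A F ω) : Liftable A F (-ω) := by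
  obtain ⟨N, _, _, _, pt, ν, rfl⟩ := h
  exact ⟨N, inferInstance, inferInstance, inferInstance, pt, -ν, map_neg _ _⟩

theorem liftable_zero : Liftable A F (0 : F) := by
  simpa using liftable_algebraMap (A := A) (F := F) 0

theorem liftable_one : Liftable A F (1 : F) := by
  simpa using liftable_algebraMap (A := A) (F := F) 1

theorem Liftable.inv {ω : F} (h : Liftable A F ω) : Liftable A F ω⁻¹ := by
  by_cases h0 : ω = 0
  · rw [h0, inv_zero]; exact liftable_zero
  obtain ⟨N, _, _, _, pt, ν, rfl⟩ := h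
  have hu : ∀ y : Submonoid.powers ν, IsUnit (pt y) := by
    rintro ⟨_, k, rfl⟩
    rw [map_pow]
    exact (isUnit_iff_ne_zero.mpr h0).pow k
  refine ⟨Localization.Away ν, inferInstance, inferInstance, inferInstance,
    IsLocalization.liftAlgHom (M := Submonoid.powers ν) (f := pt) hu,
    IsLocalization.Away.invSelf ν, ?_⟩
  have h1 := congrArg (IsLocalization.liftAlgHom (M := Submonoid.powers ν) (f := pt) hu)
    (IsLocalization.Away.mul_invSelf (S := Localization.Away ν) ν)
  rw [map_mul, map_one, IsLocalization.liftAlgHom_apply, IsLocalization.lift_eq] at h1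
  exact eq_inv_of_mul_eq_one_right h1

/-- Simultaneous lifting of finitely many liftable elements. -/
theorem liftableFam_of_forall : ∀ {n : ℕ} (t : Fin n → F), (∀ i, Liftable A F (t i)) →
    LiftableFam A F t
  | 0, t, _ => ⟨A, inferInstance, inferInstance, inferInstance, Algebra.ofId A F,
      fun i => i.elim0, fun i => i.elim0⟩
  | n + 1, t, h => by
    obtain ⟨N₁, _, _, _, pt₁, ν₁, h₁⟩ := h 0
    obtain ⟨N₂, _, _, _, pt₂, ν₂, h₂⟩ := liftableFam_of_forall (fun i : Fin n => t i.succ)
      (fun i => h i.succ)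
    haveI : Algebra.Etale A (N₁ ⊗[A] N₂) := Algebra.Etale.comp A N₁ (N₁ ⊗[A] N₂)
    refine ⟨N₁ ⊗[A] N₂, inferInstance, inferInstance, inferInstance,
      Algebra.TensorProduct.productMap pt₁ pt₂,
      Fin.cons (ν₁ ⊗ₜ 1) (fun i => 1 ⊗ₜ ν₂ i), ?_⟩
    intro i
    refine Fin.cases ?_ (fun j => ?_) i
    · simp [h₁]
    · simp [h₂]

/-- A simple root of a monic polynomial with liftable coefficients is liftable. -/
theorem Liftable.of_simple_root (m : F[X]) (hm : m.Monic) (hc : ∀ k, Liftable A F (m.coeff k))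
    (ω : F) (h0 : m.eval ω = 0) (h1 : m.derivative.eval ω ≠ 0) : Liftable A F ω := by
  obtain ⟨N, _, _, _, pt, ν, hν⟩ := liftableFam_of_forall (A := A)
    (fun k : Fin (m.natDegree + 1) => m.coeff k) (fun k => hc k)
  have hl : m ∈ Polynomial.lifts pt.toRingHom := by
    rw [Polynomial.lifts_iff_coeff_lifts]
    intro k
    by_cases hk : k < m.natDegree + 1
    · exact ⟨ν ⟨k, hk⟩, hν ⟨k, hk⟩⟩
    · refine ⟨0, ?_⟩
      rw [map_zero, Polynomial.coeff_eq_zero_of_natDegree_lt (by omega)]
  obtain ⟨M, hM, -, hMm⟩ := Polynomial.lifts_and_natDegree_eq_and_monic hl hm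
  let Pr : StandardEtalePair N := ⟨M, hMm, derivative M, ⟨1, 0, 1, by simp⟩⟩
  letI : Algebra N F := pt.toRingHom.toAlgebra
  haveI : IsScalarTower A N F := IsScalarTower.of_algebraMap_eq fun a => (pt.commutes a).symm
  letI : Algebra A Pr.Ring := ((algebraMap N Pr.Ring).comp (algebraMap A N)).toAlgebra
  haveI : IsScalarTower A N Pr.Ring := IsScalarTower.of_algebraMap_eq fun _ => rfl
  haveI : Algebra.Etale A Pr.Ring := Algebra.Etale.comp A N Pr.Ring
  have hmap : Pr.HasMap ω := by
    constructor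
    · show aeval ω M = 0
      rw [Polynomial.aeval_def, Polynomial.eval₂_eq_eval_map]
      show eval ω (map pt.toRingHom M) = 0
      rw [hM]; exact h0
    · show IsUnit (aeval ω (derivative M))
      rw [Polynomial.aeval_def, Polynomial.eval₂_eq_eval_map]
      show IsUnit (eval ω (map pt.toRingHom (derivative M)))
      rw [← Polynomial.derivative_map, hM]
      exact isUnit_iff_ne_zero.mpr h1
  exact ⟨Pr.Ring, inferInstance, inferInstance, inferInstance,
    (Pr.lift ω hmap).restrictScalars A, Pr.X, by simp⟩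

end Liftable

section Residue

variable {A : Type u} [CommRing A] {K : Type u} [Field K] [Algebra A K] {F : Type u} [Field F]
  [Algebra A F] [Algebra K F] [IsScalarTower A K F]

theorem liftable_of_frac
    (hK : ∀ x : K, ∃ a b : A, algebraMap A K b ≠ 0 ∧ x = algebraMap A K a / algebraMap A K b)
    (x : K) : Liftable A F (algebraMap K F x) := by
  obtain ⟨a, b, hb, rfl⟩ := hK x
  rw [map_div₀, ← IsScalarTower.algebraMap_apply, ← IsScalarTower.algebraMap_apply,
    div_eq_mul_inv]
  exact (liftable_algebraMap a).mul (liftable_algebraMap b).inv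

theorem liftable_of_isSeparable
    (hK : ∀ x : K, ∃ a b : A, algebraMap A K b ≠ 0 ∧ x = algebraMap A K a / algebraMap A K b)
    (ω : F) (hs : IsSeparable K ω) : Liftable A F ω := by
  have hint : IsIntegral K ω := hs.isIntegral
  refine Liftable.of_simple_root ((minpoly K ω).map (algebraMap K F))
    ((minpoly.monic hint).map _) (fun k => ?_) ω ?_ ?_
  · rw [Polynomial.coeff_map]; exact liftable_of_frac hK _
  · rw [Polynomial.eval_map, ← Polynomial.aeval_def]; exact minpoly.aeval K ω
  · rw [Polynomial.derivative_map, Polynomial.eval_map, ← Polynomial.aeval_def]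
    exact Polynomial.Separable.aeval_derivative_ne_zero hs (minpoly.aeval K ω)

theorem infinite_setOf_liftable [IsAlgClosed F] [Algebra.IsAlgebraic K F]
    (hK : ∀ x : K, ∃ a b : A, algebraMap A K b ≠ 0 ∧ x = algebraMap A K a / algebraMap A K b) :
    {ω : F | Liftable A F ω}.Infinite := by
  rcases finite_or_infinite K with hfin | hinf
  · haveI : Algebra.IsSeparable K F := Algebra.IsAlgebraic.isSeparable_of_perfectField
    have : {ω : F | Liftable A F ω} = Set.univ := by
      ext ω
      simp only [Set.mem_setOf_eq, Set.mem_univ, iff_true]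
      exact liftable_of_isSeparable hK ω (Algebra.IsSeparable.isSeparable K ω)
    rw [this]
    exact Set.infinite_univ
  · exact Set.infinite_of_injective_forall_mem (algebraMap K F).injective
      (fun x => liftable_of_frac hK x)

end Residue

/-- Given an open subset `V` of affine space over `A` and a point of it, there is an étale
`A`-algebra `N` with a prime over the image point in `Spec A` and an `N`-point of affine space
sending this prime into `V`. -/
theorem exists_etale_point (A : Type u) [CommRing A] (n : ℕ)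
    (V : Set (PrimeSpectrum (MvPolynomial (Fin n) A))) (hV : IsOpen V)
    (r : PrimeSpectrum (MvPolynomial (Fin n) A)) (hr : r ∈ V) :
    ∃ (N : Type u) (_ : CommRing N) (_ : Algebra A N) (_ : Algebra.Etale A N) (ν : Fin n → N)
      (p' : PrimeSpectrum N),
      PrimeSpectrum.comap (algebraMap A N) p' = PrimeSpectrum.comap MvPolynomial.C r ∧
      PrimeSpectrum.comap (MvPolynomial.aeval ν : MvPolynomial (Fin n) A →ₐ[A] N).toRingHom p'
        ∈ V := by
  obtain ⟨_, ⟨h, rfl⟩, hrh, hsub⟩ :=
    PrimeSpectrum.isTopologicalBasis_basic_opens.exists_subset_of_mem_open hr hV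
  let p : PrimeSpectrum A := PrimeSpectrum.comap MvPolynomial.C r
  let K := p.asIdeal.ResidueField
  let F := AlgebraicClosure K
  have hK : ∀ x : K, ∃ a b : A, algebraMap A K b ≠ 0 ∧
      x = algebraMap A K a / algebraMap A K b := by
    intro x
    obtain ⟨a, b, hb, rfl⟩ := IsFractionRing.div_surjective (A := A ⧸ p.asIdeal) x
    obtain ⟨a, rfl⟩ := Ideal.Quotient.mk_surjective a
    obtain ⟨b, rfl⟩ := Ideal.Quotient.mk_surjective b
    refine ⟨a, b, ?_, rfl⟩
    have : algebraMap (A ⧸ p.asIdeal) K (Ideal.Quotient.mk _ b) ≠ 0 :=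
      IsFractionRing.to_map_ne_zero_of_mem_nonZeroDivisors hb
    exact this
  have hker : RingHom.ker (algebraMap A F) = p.asIdeal := by
    ext a
    rw [RingHom.mem_ker, IsScalarTower.algebraMap_apply A K F, map_eq_zero_iff _
      (algebraMap K F).injective, ← RingHom.mem_ker, Ideal.ker_algebraMap_residueField]
  let hF : MvPolynomial (Fin n) F := MvPolynomial.map (algebraMap A F) h
  have hF0 : hF ≠ 0 := by
    intro h0
    have hmem : h ∈ RingHom.ker (MvPolynomial.map (σ := Fin n) (algebraMap A F)) := h0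
    rw [MvPolynomial.ker_map, hker] at hmem
    have hle : p.asIdeal.map MvPolynomial.C ≤ r.asIdeal := Ideal.map_le_iff_le_comap.mpr le_rfl
    exact hrh (hle hmem)
  have hinf := infinite_setOf_liftable (A := A) (K := K) (F := F) hK
  obtain ⟨x, hx, hne⟩ : ∃ x : Fin n → F, (∀ i, Liftable A F (x i)) ∧
      MvPolynomial.eval x hF ≠ 0 := by
    by_contra hcon
    push Not at hcon
    apply hF0
    refine MvPolynomial.funext_set (fun _ => {ω : F | Liftable A F ω}) (fun _ => hinf)
      (fun x hx => ?_)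
    rw [map_zero]
    exact hcon x (fun i => hx i (Set.mem_univ i))
  obtain ⟨N, _, _, _, pt, ν, hν⟩ := liftableFam_of_forall x hx
  refine ⟨N, inferInstance, inferInstance, inferInstance, ν,
    ⟨RingHom.ker pt.toRingHom, RingHom.ker_isPrime _⟩, ?_, ?_⟩
  · ext a
    show algebraMap A N a ∈ RingHom.ker pt.toRingHom ↔ a ∈ p.asIdeal
    refine Iff.trans ?_ (SetLike.ext_iff.mp hker a)
    rw [RingHom.mem_ker, RingHom.mem_ker]
    show pt (algebraMap A N a) = 0 ↔ _
    rw [pt.commutes]
  · apply hsub
    show h ∉ Ideal.comap _ (RingHom.ker pt.toRingHom)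
    rw [Ideal.mem_comap, RingHom.mem_ker]
    show pt (MvPolynomial.aeval ν h) ≠ 0
    have : pt (MvPolynomial.aeval ν h) = MvPolynomial.eval x hF := by
      rw [← AlgHom.comp_apply, MvPolynomial.comp_aeval]
      have : (fun i => pt (ν i)) = x := funext hν
      rw [this, MvPolynomial.aeval_def, MvPolynomial.eval₂_eq_eval_map]
    rw [this]
    exact hne

end Groth.Agent.Helper2.RingLib
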