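import Mathlib
import Groth.Prelude.Def_EtBase
import Groth.Agent.Lib.Helper7.SHens.Residue

/-!
# Transport of (strictly) henselian local rings along ring isomorphisms (helper2)
-/

set_option autoImplicit false

open Polynomial

namespace Groth.Agent.Helper2.StrictHensTransfer

universe u v

theorem mem_maximalIdeal_symm {R : Type u} {R' : Type v} [CommRing R] [CommRing R'] [IsLocalRing R]
    [IsLocalRing R'] (e : R ≃+* R') (a : R') :
    e.symm a ∈ IsLocalRing.maximalIdeal R ↔ a ∈ IsLocalRing.maximalIdeal R' := by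
  rw [IsLocalRing.mem_maximalIdeal, IsLocalRing.mem_maximalIdeal, mem_nonunits_iff,
    mem_nonunits_iff]
  exact not_congr (isUnit_map_iff e.symm a)

theorem henselianLocalRing_of_ringEquiv {R : Type u} {R' : Type v} [CommRing R] [CommRing R']
    (e : R ≃+* R') [HenselianLocalRing R] : HenselianLocalRing R' := by
  haveI : IsLocalRing R' := e.isLocalRing
  refine ⟨?_⟩
  intro f hf a₀ h₁ h₂
  have hmap : (f.map (e.symm : R' →+* R)).map (e : R →+* R') = f := by
    rw [Polynomial.map_map]
    have : (e : R →+* R').comp (e.symm : R' →+* R) = RingHom.id R' := by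
      ext x
      exact e.apply_symm_apply x
    rw [this, Polynomial.map_id]
  have h₁' : (f.map (e.symm : R' →+* R)).eval (e.symm a₀) ∈ IsLocalRing.maximalIdeal R := by
    rw [show (f.map (e.symm : R' →+* R)).eval (e.symm a₀) = e.symm (f.eval a₀) from
      Polynomial.eval_map_apply (e.symm : R' →+* R) a₀, mem_maximalIdeal_symm]
    exact h₁
  have h₂' : IsUnit ((f.map (e.symm : R' →+* R)).derivative.eval (e.symm a₀)) := by
    rw [Polynomial.derivative_map,
      show (f.derivative.map (e.symm : R' →+* R)).eval (e.symm a₀) = e.symm (f.derivative.eval a₀)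
        from Polynomial.eval_map_apply (e.symm : R' →+* R) a₀]
    exact h₂.map e.symm
  obtain ⟨a', ha1, ha2⟩ := HenselianLocalRing.is_henselian (f.map (e.symm : R' →+* R))
    (hf.map _) (e.symm a₀) h₁' h₂'
  refine ⟨e a', ?_, ?_⟩
  · rw [Polynomial.IsRoot.def, ← hmap,
      show ((f.map (e.symm : R' →+* R)).map (e : R →+* R')).eval (e a') =
        e ((f.map (e.symm : R' →+* R)).eval a') from Polynomial.eval_map_apply (e : R →+* R') a']
    rw [Polynomial.IsRoot.def] at ha1
    rw [ha1, map_zero]
  · rw [← mem_maximalIdeal_symm e, map_sub, e.symm_apply_apply]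
    exact ha2

theorem isStrictlyHenselian_of_ringEquiv {R : Type u} {R' : Type v} [CommRing R] [CommRing R']
    (e : R ≃+* R') (h : EtCoh.IsStrictlyHenselianLocalRing R) :
    EtCoh.IsStrictlyHenselianLocalRing R' := by
  obtain ⟨h1, h2⟩ := h
  haveI := henselianLocalRing_of_ringEquiv e
  refine ⟨inferInstance, ?_⟩
  exact Groth.Agent.Helper7.SHens.isSepClosed_of_ringEquiv
    (IsLocalRing.ResidueField.mapEquiv e)

end Groth.Agent.Helper2.StrictHensTransfer
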